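import Cfsg.Agent.H917.CoreLe
import Cfsg.Agent.S0813
import Cfsg.Agent.StandardComponent.AltAut
import Cfsg.Agent.ClassicalGeometry.PSL2Basic

/-!
# S2499, row `Ω_9(q)`: primes dividing the order of a residual subgroup (helper781)
-/

set_option autoImplicit false
set_option linter.unusedSectionVars false

namespace Cfsg.Agent.H781.Cov9

open Cfsg Cfsg.Geo Module
open scoped Matrix MatrixGroups

section core

variable {ι : Type} [Fintype ι] [DecidableEq ι] {F : Type*} [Field F]
variable {H P : Subgroup (GL ι F)}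

theorem exists_core_inj (h : IsResidualCore H P) :
    ∃ φ : (H ⧸ (scalars ι F).subgroupOf H) →* MulAut (P ⧸ (scalars ι F).subgroupOf P),
      Function.Injective φ := by
  set Z := (scalars ι F).subgroupOf H with hZ
  let π := QuotientGroup.mk' Z
  set Pb : Subgroup (H ⧸ Z) := (P.subgroupOf H).map π with hPb
  let e := H917.coreEquiv (F := F) h.le
  have hPn : (P.subgroupOf H).Normal := ⟨fun x hx g => by
    rw [Subgroup.mem_subgroupOf] at hx ⊢
    exact h.normal g g.2 x hx⟩
  have hn : Pb.Normal := hPn.map π (QuotientGroup.mk'_surjective _)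
  let φ : (H ⧸ Z) →* MulAut Pb := MulAut.conjNormal
  have hφ : ∀ x, φ x = 1 → x = 1 := by
    intro x hx
    obtain ⟨g, rfl⟩ := QuotientGroup.mk'_surjective Z x
    apply (QuotientGroup.eq_one_iff _).2
    apply h.centralizer_scalar g g.2
    intro y hy
    have h2 := congrArg (fun f : MulAut Pb => ((f ⟨π ⟨y, h.le hy⟩, ⟨⟨y, h.le hy⟩, hy, rfl⟩⟩ : Pb) : H ⧸ Z)) hx
    simp only [φ, MulAut.conjNormal_apply, MulAut.one_apply] at h2
    have h3 : π (g * ⟨y, h.le hy⟩ * g⁻¹ * (⟨y, h.le hy⟩ : H)⁻¹) = 1 := by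
      rw [map_mul, map_inv, mul_inv_eq_one, map_mul, map_mul, map_inv]
      exact h2
    have h4 : g * ⟨y, h.le hy⟩ * g⁻¹ * (⟨y, h.le hy⟩ : H)⁻¹ ∈ Z := (QuotientGroup.eq_one_iff _).1 h3
    exact h4
  have hinj : Function.Injective φ := (injective_iff_map_eq_one φ).2 hφ
  exact ⟨((MulAut.congr e.symm).toMonoidHom).comp φ, (MulAut.congr e.symm).injective.comp hinj⟩

/-- the prime order of a non-scalar element divides the order of the automorphism group of the core -/
theorem dvd_aut_core (h : IsResidualCore H P) {g : GL ι F} (hg : g ∈ H) (hgs : g ∉ scalars ι F) {r : ℕ}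
    (hr : r.Prime) (hgr : g ^ r = 1) : r ∣ Nat.card (MulAut (P ⧸ (scalars ι F).subgroupOf P)) := by
  obtain ⟨φ, hφ⟩ := exists_core_inj h
  have := Fact.mk hr
  have h1 : orderOf (φ (QuotientGroup.mk' ((scalars ι F).subgroupOf H) ⟨g, hg⟩)) = r := by
    apply orderOf_eq_prime
    · have h2 : (⟨g, hg⟩ : H) ^ r = 1 := Subtype.ext hgr
      rw [← map_pow, ← map_pow, h2, map_one, map_one]
    · intro h2
      apply hgs
      have h3 : QuotientGroup.mk' ((scalars ι F).subgroupOf H) ⟨g, hg⟩ = 1 := hφ (h2.trans (map_one φ).symm)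
      have h4 : (⟨g, hg⟩ : H) ∈ (scalars ι F).subgroupOf H := (QuotientGroup.eq_one_iff _).1 h3
      exact h4
  rw [← h1]
  exact orderOf_dvd_natCard _

end core

theorem card_mulAut_congr {G H : Type*} [Group G] [Group H] (e : G ≃* H) :
    Nat.card (MulAut G) = Nat.card (MulAut H) := Nat.card_congr (MulAut.congr e).toEquiv

theorem card_mulAut_psl {K : Type*} [Field K] [Fintype K] {p f : ℕ} (hp : p.Prime) (hf : 1 ≤ f)
    (hK : Fintype.card K = p ^ f) (h4 : 4 ≤ p ^ f) :
    Nat.card (MulAut (Matrix.ProjectiveSpecialLinearGroup (Fin 2) K)) = f * (p ^ f * ((p ^ f) ^ 2 - 1)) := by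
  have := Fact.mk hp
  rw [Cfsg.Agent.S0813.result p f hf hK 2 le_rfl (fun _ => h4), if_pos rfl,
    ClassicalGeometry.PSL2Basic.card_PGL2, hK, one_mul]

theorem card_mulAut_alt (n : ℕ) (hn : 7 ≤ n) : Nat.card (MulAut (alternatingGroup (Fin n))) ∣ n.factorial := by
  obtain ⟨ψ, hψ⟩ := StandardComponent.AltAut.exists_autHom n hn
  have hinj : Function.Injective ψ := by
    rw [injective_iff_map_eq_one]
    intro e he
    apply MulEquiv.ext
    intro x
    apply Subtype.ext
    rw [hψ, he, one_mul, inv_one, mul_one]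
    rfl
  have h1 := Subgroup.card_dvd_of_injective ψ hinj
  rwa [Nat.card_eq_fintype_card, Nat.card_eq_fintype_card (α := Equiv.Perm (Fin n)), Fintype.card_perm, Fintype.card_fin,
    ← Nat.card_eq_fintype_card] at h1

end Cfsg.Agent.H781.Cov9
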