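import Mathlib
import Cfsg.Prelude.Def_GeometricClasses

/-!
# S2499, row `Ω_9(q)`: permutations of nine points; the monomial group (helper781)
-/

set_option autoImplicit false
set_option linter.unusedSectionVars false

namespace Cfsg.Agent.H781.Cov9

open Cfsg Cfsg.Geo Module
open scoped Matrix MatrixGroups

theorem exists_dvd_of_lcm {p : ℕ} (hp : p.Prime) (s : Multiset ℕ) (h : p ∣ s.lcm) : ∃ c ∈ s, p ∣ c := by
  induction s using Multiset.induction_on with
  | empty =>
    rw [Multiset.lcm_zero] at h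
    exact absurd (Nat.dvd_one.1 h) hp.one_lt.ne'
  | cons a s ih =>
    rw [Multiset.lcm_cons] at h
    have h1 : p ∣ a * s.lcm := h.trans (lcm_dvd_mul a s.lcm)
    rcases (hp.dvd_mul).1 h1 with h2 | h2
    · exact ⟨a, Multiset.mem_cons_self _ _, h2⟩
    · obtain ⟨c, hc, hc2⟩ := ih h2
      exact ⟨c, Multiset.mem_cons_of_mem hc, hc2⟩

/-- `S_9` has no element of order divisible by `7 p`, `p` an odd prime. -/
theorem perm_nine {σ : Equiv.Perm (Fin 9)} {p : ℕ} (hp : p.Prime) (hp2 : p ≠ 2) (hp7 : p ≠ 7)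
    (h7 : 7 ∣ orderOf σ) (hpo : p ∣ orderOf σ) : False := by
  classical
  rw [← Equiv.Perm.lcm_cycleType] at h7 hpo
  obtain ⟨c, hc, hc7⟩ := exists_dvd_of_lcm (by norm_num) _ h7
  obtain ⟨d, hd, hdp⟩ := exists_dvd_of_lcm hp _ hpo
  have hsum : σ.cycleType.sum ≤ 9 := by
    rw [Equiv.Perm.sum_cycleType]
    exact (Finset.card_le_univ _).trans (by simp)
  have h2c := Equiv.Perm.two_le_of_mem_cycleType hc
  have h2d := Equiv.Perm.two_le_of_mem_cycleType hd
  have hp3 : 3 ≤ p := by have := hp.two_le; omega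
  obtain ⟨s, hs⟩ := Multiset.exists_cons_of_mem hc
  rw [hs, Multiset.sum_cons] at hsum
  rw [hs, Multiset.mem_cons] at hd
  rcases hd with rfl | hd
  · have h1 : 7 * p ∣ d := Nat.Coprime.mul_dvd_of_dvd_of_dvd
      ((Nat.coprime_primes (by norm_num) hp).2 (Ne.symm hp7)) hc7 hdp
    have := Nat.le_of_dvd (by omega) h1
    omega
  · have h1 : d ≤ s.sum := Multiset.single_le_sum (by simp) d hd
    have h2 := Nat.le_of_dvd (by omega) hc7
    have h3 := Nat.le_of_dvd (by omega) hdp
    omega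

section

variable {ι : Type} [Fintype ι] [DecidableEq ι] {F : Type*} [Field F]

theorem D_injective {t m : ℕ} {D : Fin t → Submodule F (ι → F)} (hD : IsMDecomposition m D) :
    Function.Injective D := by
  apply hD.indep.injective
  intro i h
  have h1 := hD.finrank_eq i
  rw [h, finrank_bot] at h1
  exact hD.pos.ne h1

/-- the permutation representation of the stabiliser of a decomposition -/
theorem exists_permHom {t m : ℕ} {D : Fin t → Submodule F (ι → F)} (hD : IsMDecomposition m D) :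
    ∃ ψ : ↥(decompositionStabilizer D) →* Equiv.Perm (Fin t),
    ∀ (g : ↥(decompositionStabilizer D)) i,
      (D i).map (Matrix.toLin' ((g : GL ι F) : Matrix ι ι F)) = D (ψ g i) := by
  have hinj := D_injective hD
  choose f hf using fun g : ↥(decompositionStabilizer D) => g.2
  refine ⟨⟨⟨f, ?_⟩, ?_⟩, hf⟩
  · ext i
    have h1 := hf 1 i
    have h2 : (D i).map (Matrix.toLin' (((1 : ↥(decompositionStabilizer D)) : GL ι F) : Matrix ι ι F)) = D i := by
      simp
    rw [h2] at h1
    rw [← hinj h1]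
    rfl
  · intro g h
    ext i
    have h1 := hf (g * h) i
    have h2 : (D i).map (Matrix.toLin' (((g * h : ↥(decompositionStabilizer D)) : GL ι F) : Matrix ι ι F)) =
        D (f g (f h i)) := by
      rw [Subgroup.coe_mul, Units.val_mul, Matrix.toLin'_mul, Submodule.map_comp, hf, hf]
    rw [h2] at h1
    rw [← hinj h1]
    rfl

/-- an isometry fixing the members of an orthogonal decomposition into lines is an involution -/
theorem sq_eq_one_of_lines {t : ℕ} {Q : QuadraticForm F (ι → F)} {D : Fin t → Submodule F (ι → F)}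
    (hD : IsOrthogonalMDecomposition (⇑Q) 1 D) {g : GL ι F} (hg : g ∈ isometryGroup F (⇑Q))
    (hgD : ∀ i, (D i).map (Matrix.toLin' (g : Matrix ι ι F)) = D i) : g ^ 2 = 1 := by
  have hline : ∀ i, ∀ v ∈ D i, (g : Matrix ι ι F) *ᵥ ((g : Matrix ι ι F) *ᵥ v) = v := by
    intro i v hv
    by_cases hv0 : v = 0
    · rw [hv0, Matrix.mulVec_zero, Matrix.mulVec_zero]
    have h1 := hD.decomp.decomp.finrank_eq i
    have h3 : ∀ w ∈ D i, ∃ c : F, c • v = w := by
      intro w hw
      obtain ⟨c, hc⟩ := (finrank_eq_one_iff_of_nonzero' (⟨v, hv⟩ : D i) (by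
        intro h; exact hv0 (congrArg Subtype.val h))).1 h1 ⟨w, hw⟩
      exact ⟨c, congrArg Subtype.val hc⟩
    have hmem : (g : Matrix ι ι F) *ᵥ v ∈ D i := by
      rw [← hgD i]
      exact ⟨v, hv, by rw [Matrix.toLin'_apply]⟩
    obtain ⟨c, hc⟩ := h3 _ hmem
    -- `Q v ≠ 0`
    have hQv : Q v ≠ 0 := by
      intro h0
      have hn := (hD.decomp.nondegenerate i v hv hv0).1
      obtain ⟨x, hx, hx0⟩ := hn
      obtain ⟨a, rfl⟩ := h3 x hx
      apply hx0
      rw [QuadraticMap.polar_smul_left, QuadraticMap.polar_self, h0, smul_zero, smul_zero]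
    have h4 : Q ((g : Matrix ι ι F) *ᵥ v) = Q v := by
      have := hg
      exact this v v
    rw [← hc, QuadraticMap.map_smul, smul_eq_mul] at h4
    have h5 : c * c = 1 := by
      have h6 : (c * c - 1) * Q v = 0 := by rw [sub_mul, h4]; ring
      rcases mul_eq_zero.1 h6 with h | h
      · exact sub_eq_zero.1 h
      · exact absurd h hQv
    rw [← hc, Matrix.mulVec_smul, ← hc, smul_smul, h5, one_smul]
  apply Units.ext
  apply Matrix.toLin'.injective
  rw [Units.val_pow_eq_pow_val, Units.val_one, Matrix.toLin'_one]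
  have htop : ∀ v : ι → F, v ∈ iSup D := by
    rw [hD.decomp.decomp.iSup_eq_top]; intro v; trivial
  refine LinearMap.ext fun v => ?_
  refine Submodule.iSup_induction D (motive := fun v => (Matrix.toLin' ((g : Matrix ι ι F) ^ 2)) v = LinearMap.id v)
    (htop v) ?_ ?_ ?_
  · intro i x hx
    rw [Matrix.toLin'_apply, pow_two, ← Matrix.mulVec_mulVec, hline i x hx]; rfl
  · rw [map_zero, map_zero]
  · intro x y hx hy
    rw [map_add, map_add, hx, hy]

theorem eq_one_of_sq {G : Type*} [Group G] {g : G} {r : ℕ} (hr : Odd r) (h : g ^ r = 1) (h2 : g ^ 2 = 1) : g = 1 := by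
  obtain ⟨k, rfl⟩ := hr
  rw [pow_add, pow_mul, h2, one_pow, one_mul, pow_one] at h
  exact h

/-- a commuting pair of isometries of orders `7` and `p` does not stabilise an orthogonal decomposition of a
nine-dimensional space into lines -/
theorem no_nine {Q : QuadraticForm F (ι → F)} {D : Fin 9 → Submodule F (ι → F)}
    (hD : IsOrthogonalMDecomposition (⇑Q) 1 D) {y u : GL ι F} (hy : y ∈ isometryGroup F (⇑Q))
    (hu : u ∈ isometryGroup F (⇑Q)) (hyD : y ∈ decompositionStabilizer D) (huD : u ∈ decompositionStabilizer D)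
    (hc : y * u = u * y) (hy7 : y ^ 7 = 1) (hy1 : y ≠ 1) {p : ℕ} (hp : p.Prime) (hp2 : p ≠ 2) (hp7 : p ≠ 7)
    (hup : u ^ p = 1) (hu1 : u ≠ 1) : False := by
  obtain ⟨ψ, hψ⟩ := exists_permHom hD.decomp.decomp
  have key : ∀ (g : ↥(decompositionStabilizer D)) (r : ℕ), r.Prime → Odd r → (g : GL ι F) ∈ isometryGroup F (⇑Q) →
      (g : GL ι F) ^ r = 1 → (g : GL ι F) ≠ 1 → orderOf (ψ g) = r := by
    intro g r hr hro hg hgr hg1
    have := Fact.mk hr
    apply orderOf_eq_prime
    · rw [← map_pow]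
      have : g ^ r = 1 := Subtype.ext hgr
      rw [this, map_one]
    · intro h1
      apply hg1
      apply eq_one_of_sq hro hgr
      apply sq_eq_one_of_lines hD hg
      intro i
      rw [hψ, h1]
      rfl
  have h7 := key ⟨y, hyD⟩ 7 (by norm_num) (by decide) hy hy7 hy1
  have hpo := key ⟨u, huD⟩ p hp (hp.odd_of_ne_two hp2) hu hup hu1
  have hcom : Commute (ψ ⟨y, hyD⟩) (ψ ⟨u, huD⟩) := by
    have : (⟨y, hyD⟩ : ↥(decompositionStabilizer D)) * ⟨u, huD⟩ = ⟨u, huD⟩ * ⟨y, hyD⟩ := Subtype.ext hc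
    change ψ _ * ψ _ = ψ _ * ψ _
    rw [← map_mul, this, map_mul]
  have hord := hcom.orderOf_mul_eq_mul_orderOf_of_coprime (by
    rw [h7, hpo]
    exact (Nat.coprime_primes (by norm_num) hp).2 (Ne.symm hp7))
  rw [h7, hpo] at hord
  exact perm_nine hp hp2 hp7 (by rw [hord]; exact Dvd.intro _ rfl) (by rw [hord]; exact Dvd.intro_left _ rfl)

end

end Cfsg.Agent.H781.Cov9
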