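import Cfsg.Agent.H884.ElT
import Cfsg.Agent.H925.OrthType
import Cfsg.Agent.H781.Cov9.Perm

/-!
# S2499, row `Ω_9(q)`: isometries of prime order and their invariant subspaces (helper781)
-/

set_option autoImplicit false
set_option linter.unusedSectionVars false

namespace Cfsg.Agent.H781.Cov9

open Module QuadraticMap Cfsg Cfsg.Geo Cfsg.Agent.LieClassical.OrthCore Cfsg.Agent.H955 Cfsg.Agent.H954.TSing
open Cfsg.Agent.H884.El
open Cfsg.Agent.H951 (fx cm Inv)
open scoped MatrixGroups Matrix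

universe u

variable {ι : Type} [Fintype ι] [DecidableEq ι] {F : Type u} [Field F] [Fintype F] {Q : QuadraticForm F (ι → F)}

/-- an isometry of odd prime order `r` with commutator space of dimension `d` -/
structure Elt (Q : QuadraticForm F (ι → F)) (x : GL ι F) (r d : ℕ) : Prop where
  mem : x ∈ isometryGroup F (⇑Q)
  iso : Iso Q (lin x) r
  pow : x ^ r = 1
  ne : x ≠ 1
  dim : finrank F (cm (lin x)) = d

theorem lin_mul (x y : GL ι F) : lin (x * y) = lin x * lin y := by
  rw [lin, Units.val_mul, Matrix.toLin'_mul]; rfl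

theorem lin_apply (x : GL ι F) (v : ι → F) : lin x v = (x : Matrix ι ι F) *ᵥ v := Matrix.toLin'_apply _ _

theorem lin_mul_apply (x y : GL ι F) (v : ι → F) : lin (x * y) v = lin x (lin y v) := by
  rw [lin_mul]; rfl

theorem lin_inv_apply (x : GL ι F) (v : ι → F) : lin x⁻¹ (lin x v) = v := by
  rw [← lin_mul_apply, inv_mul_cancel, lin_one]; rfl

theorem lin_inv_apply' (x : GL ι F) (v : ι → F) : lin x (lin x⁻¹ v) = v := by
  rw [← lin_mul_apply, mul_inv_cancel, lin_one]; rfl

theorem lin_pow (x : GL ι F) (n : ℕ) : lin x ^ n = lin (x ^ n) := (H251.GeoCard.toLin_pow x n).symm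

theorem Elt.of {x : GL ι F} {e r d : ℕ} (hr : PP (Nat.card F) e r) (he : 2 ≤ e) (hx : x ∈ isometryGroup F (⇑Q))
    (hxr : x ^ r = 1) (hx1 : x ≠ 1) (hd : finrank F (cm (lin x)) = d) : Elt Q x r d := by
  refine ⟨hx, Iso.mk' hr he ?_ (lin_iso le_rfl hx), hxr, hx1, hd⟩
  rw [lin_pow, hxr, lin_one]

variable {x y u : GL ι F} {e r d p : ℕ}

theorem Elt.conj (h : Elt Q x r d) {c : GL ι F} (hc : c ∈ isometryGroup F (⇑Q)) : Elt Q (c * x * c⁻¹) r d := by
  have hm : c * x * c⁻¹ ∈ isometryGroup F (⇑Q) := Subgroup.mul_mem _ (Subgroup.mul_mem _ hc h.mem) (Subgroup.inv_mem _ hc)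
  have hp : (c * x * c⁻¹) ^ r = 1 := by rw [conj_pow, h.pow, mul_one, mul_inv_cancel]
  refine ⟨hm, ⟨h.iso.prime, h.iso.two_lt, h.iso.ne0, ?_, lin_iso le_rfl hm⟩, hp, ?_, ?_⟩
  · rw [lin_pow, hp, lin_one]
  · intro h1
    apply h.ne
    have : x = c⁻¹ * (c * x * c⁻¹) * c := by group
    rw [this, h1]
    group
  · rw [finrank_cm_conj, h.dim]

theorem Elt.dvd_card (h : Elt Q x r d) {M : Subgroup (GL ι F)} (hx : x ∈ M) : r ∣ Nat.card M := by
  have := Fact.mk h.iso.prime
  have h1 : orderOf x = r := orderOf_eq_prime h.pow h.ne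
  rw [← h1, ← Subgroup.orderOf_mk x hx]
  exact orderOf_dvd_natCard _

theorem not_scalar (hx1 : x ≠ 1) {v : ι → F} (hv : v ≠ 0) (hxv : lin x v = v) : x ∉ scalars ι F := by
  intro h
  obtain ⟨c, hc⟩ := (mem_scalars_iff x).1 h
  rw [lin_apply, hc, Matrix.smul_mulVec, Matrix.one_mulVec] at hxv
  have h1 : ((c : F) - 1) • v = 0 := by rw [sub_smul, one_smul, hxv, sub_self]
  have h2 : (c : F) = 1 := by
    rcases smul_eq_zero.1 h1 with h | h
    · exact sub_eq_zero.1 h
    · exact absurd h hv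
  apply hx1
  apply Units.ext
  rw [hc, h2, one_smul]
  rfl

theorem Elt.finrank_add (h : Elt Q x r d) : finrank F ↥(fx (lin x)) + d = Fintype.card ι := by
  have h1 := h.iso.finrank_add
  rw [h.dim, finrank_V] at h1
  exact h1

theorem exists_mem_ne {W : Submodule F (ι → F)} (h : finrank F W ≠ 0) : ∃ v ∈ W, v ≠ 0 := by
  by_contra hcon
  push Not at hcon
  apply h
  rw [Submodule.finrank_eq_zero, Submodule.eq_bot_iff]
  exact hcon

theorem Elt.not_scalar (h : Elt Q x r d) (hd : d < Fintype.card ι) : x ∉ scalars ι F := by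
  have h1 := h.finrank_add
  obtain ⟨v, hv, hv0⟩ := exists_mem_ne (W := fx (lin x)) (by omega)
  exact Cov9.not_scalar h.ne hv0 (H951.mem_fx.1 hv)

theorem nondeg_of_geo {W : Submodule F (ι → F)} (h : IsNondegenerateOn (QuadraticMap.polar (⇑Q)) W) :
    Nondeg (res Q W) := by
  rw [nondeg_res_iff]
  intro v hv hvw
  by_contra hne
  obtain ⟨-, w, hw, hw0⟩ := h v hv hne
  exact hw0 (hvw w hw)

theorem inv_perp {f : Module.End F (ι → F)} (hf : ∀ v, Q (f v) = Q v) {r : ℕ} (hr : 0 < r) (hfr : f ^ r = 1)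
    {W : Submodule F (ι → F)} (hW : Inv f W) : Inv f (perp Q W) := by
  intro v hv w hw
  have h1 : w = f ((f ^ (r - 1)) w) := by
    rw [← Module.End.mul_apply, ← pow_succ', Nat.sub_add_cancel hr, hfr]; rfl
  rw [h1, polar_isom hf]
  exact hv _ (hW.pow _ w hw)

/-- `3 ∣ dim fx` for an element centralising a cubic field -/
theorem Elt.three_dvd [Nonempty ι] (h : Elt Q x r d) (hr3 : r ≠ 3) {K : Subalgebra F (Matrix ι ι F)}
    (hK : IsFieldSubalgebra 3 K) (hxK : x ∈ subalgebraNormalizer K) : 3 ∣ finrank F (fx (lin x)) := by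
  have hc := comm_field Nat.prime_three hK hxK h.iso.prime hr3 h.pow
  apply H925.finrank_dvd_of_invariant hK
  intro k hk w hw
  rw [H951.mem_fx, lin_apply] at hw ⊢
  rw [Matrix.mulVec_mulVec, hc k hk, ← Matrix.mulVec_mulVec, hw]

/-- an element with a seven-dimensional fixed space does not normalise a cubic field -/
theorem no_cubic [Nonempty ι] (h9 : Fintype.card ι = 9) (hd : finrank F (fx (lin u)) = 7)
    {K : Subalgebra F (Matrix ι ι F)} (hK : IsFieldSubalgebra 3 K) (huK : u ∈ subalgebraNormalizer K) : False := by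
  by_cases hall : ∀ k ∈ K, (u : Matrix ι ι F) * k = k * (u : Matrix ι ι F)
  · have h3 : 3 ∣ finrank F (fx (lin u)) := by
      apply H925.finrank_dvd_of_invariant hK
      intro k hk w hw
      rw [H951.mem_fx, lin_apply] at hw ⊢
      rw [Matrix.mulVec_mulVec, hall k hk, ← Matrix.mulVec_mulVec, hw]
    rw [hd] at h3
    omega
  · push Not at hall
    obtain ⟨k, hk, hku⟩ := hall
    set k' : Matrix ι ι F := (u : Matrix ι ι F) * k * ((u⁻¹ : GL ι F) : Matrix ι ι F) with hk'
    have hk'K : k' ∈ K := (huK k).1 hk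
    have huu : ((u⁻¹ : GL ι F) : Matrix ι ι F) * (u : Matrix ι ι F) = 1 := by
      rw [← Units.val_mul, inv_mul_cancel, Units.val_one]
    have hk'u : k' * (u : Matrix ι ι F) = (u : Matrix ι ι F) * k := by
      rw [hk', Matrix.mul_assoc, huu, Matrix.mul_one]
    have hne : k' - k ≠ 0 := by
      intro h
      apply hku
      rw [← hk'u, sub_eq_zero.1 h]
    have hk0 : k ≠ 0 := by
      rintro rfl
      apply hku
      rw [Matrix.mul_zero, Matrix.zero_mul]
    have hinj : ∀ z ∈ K, z ≠ 0 → ∀ v : ι → F, z *ᵥ v = 0 → v = 0 := by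
      intro z hz hz0 v hv
      obtain ⟨z', hz', hzz⟩ := hK.inv z hz hz0
      have h1 : (z' * z) *ᵥ v = v := by rw [hK.comm z' hz' z hz, hzz, Matrix.one_mulVec]
      rw [← h1, ← Matrix.mulVec_mulVec, hv, Matrix.mulVec_zero]
    have hkinj : Function.Injective (Matrix.toLin' k) := by
      rw [← LinearMap.ker_eq_bot, LinearMap.ker_eq_bot']
      intro v hv
      rw [Matrix.toLin'_apply] at hv
      exact hinj k hk hk0 v hv
    have hdk : finrank F ((fx (lin u)).map (Matrix.toLin' k)) = 7 := by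
      rw [← hd]
      exact (Submodule.equivMapOfInjective _ hkinj _).finrank_eq.symm
    have hsum := Submodule.finrank_sup_add_finrank_inf_eq (fx (lin u)) ((fx (lin u)).map (Matrix.toLin' k))
    have hle : finrank F ↥(fx (lin u) ⊔ (fx (lin u)).map (Matrix.toLin' k)) ≤ 9 := by
      rw [← h9, ← finrank_V (F := F) (ι := ι)]
      exact Submodule.finrank_le _
    obtain ⟨w, ⟨hw1, hw2⟩, hw0⟩ := exists_mem_ne
      (W := fx (lin u) ⊓ (fx (lin u)).map (Matrix.toLin' k)) (by omega)
    obtain ⟨v, hv, rfl⟩ := hw2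
    rw [SetLike.mem_coe, H951.mem_fx, lin_apply] at hv
    rw [SetLike.mem_coe, H951.mem_fx, lin_apply, Matrix.toLin'_apply, Matrix.mulVec_mulVec, ← hk'u,
      ← Matrix.mulVec_mulVec, hv] at hw1
    have h1 : (k' - k) *ᵥ v = 0 := by rw [Matrix.sub_mulVec, hw1, sub_self]
    have h2 := hinj _ (K.sub_mem hk'K hk) hne v h1
    apply hw0
    rw [h2, map_zero]

/-- the second witness: a commuting pair `y`, `u` -/
structure BElt (Q : QuadraticForm F (ι → F)) (y u : GL ι F) (r d p : ℕ) : Prop where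
  elt : Elt Q y r d
  mem : u ∈ isometryGroup F (⇑Q)
  prime : p.Prime
  charP : CharP F p
  pow : u ^ p = 1
  ne : u ≠ 1
  comm : y * u = u * y
  dim : finrank F (fx (lin u)) = 7
  sing : ∀ v, lin y v = v → lin u v = v → Q v = 0

theorem finrank_fx_conj (c g : GL ι F) : finrank F (fx (lin (c * g * c⁻¹))) = finrank F (fx (lin g)) := by
  have h1 : fx (lin (c * g * c⁻¹)) = (fx (lin g)).map (LieClassical.OrthFinite.glEquiv ι F c : (ι → F) →ₗ[F] (ι → F)) := by
    ext v
    rw [H951.mem_fx, Submodule.mem_map]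
    constructor
    · intro h
      refine ⟨lin c⁻¹ v, H951.mem_fx.2 ?_, ?_⟩
      · rw [lin_mul_apply, lin_mul_apply] at h
        have := congrArg (lin c⁻¹) h
        rwa [lin_inv_apply] at this
      · change LieClassical.OrthFinite.glEquiv ι F c _ = v
        rw [LieClassical.OrthFinite.glEquiv_apply, ← lin_apply, lin_inv_apply']
    · rintro ⟨w, hw, rfl⟩
      change lin _ (LieClassical.OrthFinite.glEquiv ι F c _) = LieClassical.OrthFinite.glEquiv ι F c _
      rw [LieClassical.OrthFinite.glEquiv_apply, ← lin_apply, lin_mul_apply, lin_mul_apply, lin_inv_apply,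
        H951.mem_fx.1 hw]
  rw [h1]
  exact LinearEquiv.finrank_map_eq _ _

theorem BElt.conj (h : BElt Q y u r d p) {c : GL ι F} (hc : c ∈ isometryGroup F (⇑Q)) :
    BElt Q (c * y * c⁻¹) (c * u * c⁻¹) r d p := by
  refine ⟨h.elt.conj hc, Subgroup.mul_mem _ (Subgroup.mul_mem _ hc h.mem) (Subgroup.inv_mem _ hc), h.prime, h.charP,
    by rw [conj_pow, h.pow, mul_one, mul_inv_cancel], ?_, ?_, by rw [finrank_fx_conj, h.dim], ?_⟩
  · intro h1
    apply h.ne
    have : u = c⁻¹ * (c * u * c⁻¹) * c := by group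
    rw [this, h1]
    group
  · have h1 : c * y * c⁻¹ * (c * u * c⁻¹) = c * (y * u) * c⁻¹ := by group
    have h2 : c * u * c⁻¹ * (c * y * c⁻¹) = c * (u * y) * c⁻¹ := by group
    rw [h1, h2, h.comm]
  · intro v hv hv2
    have key : ∀ z : GL ι F, lin (c * z * c⁻¹) v = v → lin z (lin c⁻¹ v) = lin c⁻¹ v := by
      intro z hz
      rw [lin_mul_apply, lin_mul_apply] at hz
      have := congrArg (lin c⁻¹) hz
      rwa [lin_inv_apply] at this
    have h1 := h.sing (lin c⁻¹ v) (key y hv) (key u hv2)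
    rwa [lin_iso le_rfl (Subgroup.inv_mem _ hc)] at h1

/-- `y` and `u` are powers of `y u` -/
theorem BElt.mem_of_mul (h : BElt Q y u r d p) (hrp : r ≠ p) {M : Subgroup (GL ι F)} (hM : y * u ∈ M) :
    y ∈ M ∧ u ∈ M := by
  have hc : Commute y u := h.comm
  have hcop : Nat.Coprime r p := (Nat.coprime_primes h.elt.iso.prime h.prime).2 hrp
  have h1 : y ^ p ∈ M := by
    have := M.pow_mem hM p
    rwa [hc.mul_pow, h.pow, mul_one] at this
  have hy : y ∈ M := by
    obtain ⟨k, hk⟩ := Nat.exists_mul_mod_eq_one_of_coprime hcop.symm h.elt.iso.prime.one_lt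
    have h2 : y ^ (p * k) = y := by
      rw [← Nat.mod_add_div (p * k) r, hk.2, pow_add, pow_one, pow_mul, h.elt.pow, one_pow, mul_one]
    rw [← h2, pow_mul]
    exact M.pow_mem h1 k
  refine ⟨hy, ?_⟩
  have := M.mul_mem (M.inv_mem hy) hM
  rwa [inv_mul_cancel_left] at this

/-- the pair leaves no nonsingular line invariant -/
theorem BElt.no_line (h : BElt Q y u r d p) (hr : PP (Nat.card F) e r) (he : 2 ≤ e) {W : Submodule F (ι → F)}
    (hW1 : finrank F W = 1) (hWy : Inv (lin y) W) (hWu : Inv (lin u) W) : TS Q W := by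
  have hle := h.elt.iso.le_fx hr hWy (by omega)
  intro v hv
  by_cases hv0 : v = 0
  · rw [hv0, QuadraticMap.map_zero]
  apply h.sing v (H951.mem_fx.1 (hle hv))
  obtain ⟨c, hc⟩ := (finrank_eq_one_iff_of_nonzero' (⟨v, hv⟩ : W) (by
        intro h; exact hv0 (congrArg Subtype.val h))).1 hW1 ⟨lin u v, hWu v hv⟩
  have hc1 : c • v = lin u v := congrArg Subtype.val hc
  have hpow : ∀ n : ℕ, (lin u ^ n) v = c ^ n • v := by
    intro n
    induction n with
    | zero => rw [pow_zero, pow_zero, one_smul]; rfl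
    | succ n ih => rw [pow_succ', Module.End.mul_apply, ih, map_smul, ← hc1, smul_smul, pow_succ]
  have h1 := hpow p
  rw [lin_pow, h.pow, lin_one] at h1
  have h2 : c ^ p = 1 := by
    have h3 : (c ^ p - 1) • v = 0 := by
      rw [sub_smul, one_smul, ← h1]
      exact sub_self _
    rcases smul_eq_zero.1 h3 with h | h
    · exact sub_eq_zero.1 h
    · exact absurd h hv0
  have hcp := h.charP
  have hpf := Fact.mk h.prime
  have h4 : (c - 1) ^ p = 0 := by rw [sub_pow_char, h2, one_pow, sub_self]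
  have h5 : c = 1 := sub_eq_zero.1 (pow_eq_zero_iff h.prime.ne_zero |>.1 h4)
  rw [← hc1, h5, one_smul]

end Cfsg.Agent.H781.Cov9
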