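import Cfsg.Agent.H781.Cov9.Fin
import Cfsg.Agent.S5836

/-!
# S2499, row `Ω_9(q)` (COV-O9, helper781)

* `noTwo_o9` : `Ω_9(q)`, `q` odd, is not the union of two conjugacy classes of proper subgroups.
-/

set_option autoImplicit false

namespace Cfsg.Agent.H781.Cov9

open Cfsg Cfsg.Agent.H278.Cov

/-- **COV-O9** -/
theorem noTwo_o9 {F : Type} [Field F] [Fintype F] (hodd : Odd (Fintype.card F)) :
    NoTwo (POmega F (quadFormOdd 4 F)) :=
  noTwo_of_res hodd fun H hH hS => Cfsg.Agent.S5836.result hodd H hH hS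

end Cfsg.Agent.H781.Cov9
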