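import Cfsg.Agent.H781.Cov9.Main
import Cfsg.Agent.H884.ElFin
import Cfsg.Agent.H957.Bridge
import Cfsg.Agent.S5835

/-!
# S2499, row `Ω_9(q)` (COV-O9, helper781), from S5836
-/

set_option autoImplicit false
set_option linter.unusedSectionVars false

namespace Cfsg.Agent.H781.Cov9

open Module QuadraticMap Cfsg Cfsg.Geo Cfsg.Agent.LieClassical Cfsg.Agent.LieClassical.OmegaReindex Cfsg.Agent.H955
open Cfsg.Agent.H278.Cov
open scoped MatrixGroups Matrix

universe u

variable {F : Type u} [Field F] [Fintype F]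

theorem noTwo_POmega {ι : Type} [Fintype ι] [DecidableEq ι] {Q : (ι → F) → F} (h : NoTwo ↥(omegaGL Q)) :
    NoTwo (POmega F Q) := by
  let e : ↥(Omega F Q) ≃* ↥(omegaGL Q) :=
    (Omega F Q).equivMapOfInjective (isometryGroup F Q).subtype (isometryGroup F Q).subtype_injective
  exact (h.congr e.symm).of_surjective (QuotientGroup.mk' (Subgroup.center (Omega F Q)))
    (QuotientGroup.mk'_surjective _)

/-- **COV-O9** from the residual class (S5836) -/
theorem noTwo_of_res (hodd : Odd (Fintype.card F))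
    (hres : ∀ H : Subgroup (GL I9 F), IsMaximalIn (omegaGL (quadFormOdd 4 F)) H → InOrthogonalResidualClass H →
      ResCases H) : NoTwo (POmega F (quadFormOdd 4 F)) := by
  have h2 := H390.two_ne_zero_of_odd hodd
  have hgeo : ∀ H : Subgroup (GL I9 F), IsMaximalIn (omegaGL (quadFormOdd 4 F)) H → GeoCases (quadFormOdd 4 F) H := by
    intro H hH
    have h := Cfsg.Agent.S5835.result hodd H hH
    rcases h with h | h | h | h | h | h | h | h
    · exact Or.inl h
    · exact Or.inr (Or.inl h)
    · exact Or.inr (Or.inr (Or.inl h))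
    · exact Or.inr (Or.inr (Or.inr (Or.inl h)))
    · exact Or.inr (Or.inr (Or.inr (Or.inr (Or.inl h))))
    · exact Or.inr (Or.inr (Or.inr (Or.inr (Or.inr (Or.inl h)))))
    · exact Or.inr (Or.inr (Or.inr (Or.inr (Or.inr (Or.inr (Or.inl h))))))
    · exact Or.inr (Or.inr (Or.inr (Or.inr (Or.inr (Or.inr (Or.inr (hres H hH h)))))))
  apply noTwo_POmega
  have key : (∀ H : Subgroup (GL I9 F), IsMaximalIn (omegaGL (⇑(quadOdd 4 F))) H → GeoCases (⇑(quadOdd 4 F)) H) →
      NoTwo ↥(omegaGL (⇑(quadOdd 4 F))) := by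
    intro hG
    refine noTwo_nine (nondeg_iff.2 (quadOdd_nondegenerate h2)) h2 ?_ hG
    intro g r hg hr hgr
    exact H957.mem_omegaGL_of_odd (quadOdd 4 F) (quadOdd_nondegenerate h2) (Or.inr (by rw [card_nine]; norm_num))
      hr g hg hgr
  rw [coe_quadOdd] at key
  exact key hgeo

end Cfsg.Agent.H781.Cov9
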