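import Cfsg.Agent.H781.Cov9.Geo
import Cfsg.Agent.H955.QClass

/-!
# S2499, row `Ω_9(q)`: the witnesses (helper781)
-/

set_option autoImplicit false
set_option linter.unusedSectionVars false

namespace Cfsg.Agent.H781.Cov9

open Module QuadraticMap Cfsg Cfsg.Geo Cfsg.Agent.LieClassical.OrthCore Cfsg.Agent.H955 Cfsg.Agent.H954.TSing
open Cfsg.Agent.H884.El
open Cfsg.Agent.H951 (fx cm Inv)
open scoped MatrixGroups Matrix

universe u

variable {ι : Type} [Fintype ι] [DecidableEq ι] {F : Type u} [Field F] [Fintype F] {Q : QuadraticForm F (ι → F)}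

section pair

variable {V : Type*} [AddCommGroup V] [Module F V] [FiniteDimensional F V]

theorem exists_ne_zero_of_two (h3 : 3 ≤ finrank F V) (f g : V →ₗ[F] F) : ∃ v, v ≠ 0 ∧ f v = 0 ∧ g v = 0 := by
  have h : LinearMap.ker (f.prod g) ≠ ⊥ := by
    apply LinearMap.ker_ne_bot_of_finrank_lt
    rw [Module.finrank_prod, Module.finrank_self]
    omega
  obtain ⟨v, hv, hv0⟩ := (Submodule.ne_bot_iff _).1 h
  have h1 : (f v, g v) = (0, 0) := LinearMap.mem_ker.1 hv
  exact ⟨v, hv0, congrArg Prod.fst h1, congrArg Prod.snd h1⟩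

/-- a singular vector and an orthogonal nonsingular vector -/
theorem exists_pair (Q : QuadraticForm F V) (h3 : 3 ≤ finrank F V)
    (hnd : Nondeg Q) : ∃ u a : V, u ≠ 0 ∧ Q u = 0 ∧ polar Q u a = 0 ∧ Q a ≠ 0 := by
  obtain ⟨u, hu0, hu⟩ := Cfsg.Agent.H955.exists_singular Q h3
  by_contra hcon
  push Not at hcon
  have h1 : ∀ a, polar Q u a = 0 → Q a = 0 := fun a ha => hcon u a hu0 hu ha
  obtain ⟨v, hv⟩ : ∃ v, polar Q u v ≠ 0 := by
    by_contra h
    push Not at h
    exact hu0 (hnd u h)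
  obtain ⟨a, ha0, ha1, ha2⟩ := exists_ne_zero_of_two h3 (polarBilin Q u) (polarBilin Q v)
  rw [polarBilin_apply_apply] at ha1 ha2
  apply ha0
  apply hnd
  intro w
  obtain ⟨c, hc⟩ : ∃ c : F, c * polar Q u v = polar Q u w := ⟨polar Q u w / polar Q u v, div_mul_cancel₀ _ hv⟩
  have h2 : polar Q u (w - c • v) = 0 := by
    rw [QuadraticMap.polar_sub_right, QuadraticMap.polar_smul_right, smul_eq_mul, hc, sub_self]
  have h3 : polar Q a (w - c • v) = 0 := by
    have h4 := QuadraticMap.map_add Q a (w - c • v)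
    rw [h1 a ha1, h1 _ h2, h1 (a + (w - c • v)) (by rw [QuadraticMap.polar_add_right, ha1, h2, add_zero]), zero_add,
      zero_add] at h4
    exact h4.symm
  rw [QuadraticMap.polar_sub_right, QuadraticMap.polar_smul_right, polar_comm Q a v, ha2, smul_zero, sub_zero] at h3
  exact h3

end pair

theorem siegel_pow {u w : ι → F} (hu : Q u = 0) (hw : polar Q u w = 0) (n : ℕ) (v : ι → F) :
    ((siegel Q u w hu hw) ^ n) v = siegelLin Q u ((n : F) • w) v := by
  induction n with
  | zero =>
    rw [pow_zero, Nat.cast_zero, zero_smul, siegelLin_apply, polar_zero_left, QuadraticMap.map_zero]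
    simp
  | succ n ih =>
    have h1 : (siegel Q u w hu hw ^ (n + 1)) v = siegel Q u w hu hw ((siegel Q u w hu hw ^ n) v) := by
      rw [pow_succ']; rfl
    have h2 : polar Q u ((n : F) • w) = 0 := by rw [polar_smul_right, hw, smul_zero]
    rw [h1, ih, Nat.cast_succ, add_smul, one_smul, add_comm, ← siegelLin_comp hu hw h2]
    rfl

/-- **a unipotent partner** for an element with a three-dimensional fixed space -/
theorem exists_partner (hQ : Nondeg Q) (h9 : Fintype.card ι = 9) {y : GL ι F} {r : ℕ} (hy : Elt Q y r 6)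
    {p : ℕ} (hp : p.Prime) (hpF : CharP F p) : ∃ u : GL ι F, BElt Q y u r 6 p := by
  have hadd := hy.finrank_add
  rw [h9] at hadd
  have hfin : finrank F (ι → F) = 9 := by rw [finrank_V, h9]
  have hnfx := nondeg_fx hQ hy.iso.iso hy.iso.ne0 hy.iso.pow
  obtain ⟨e', w', he0, he, hew, hw⟩ := exists_pair (res Q (fx (lin y))) (by omega) hnfx
  set e : ι → F := (e' : ι → F) with hedef
  set w : ι → F := (w' : ι → F) with hwdef
  have he0' : e ≠ 0 := fun h => he0 (Subtype.ext h)
  have heQ : Q e = 0 := he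
  have hwQ : Q w ≠ 0 := hw
  have hewQ : polar Q e w = 0 := hew
  have hye : lin y e = e := H951.mem_fx.1 e'.2
  have hyw : lin y w = w := H951.mem_fx.1 w'.2
  -- independence
  have hind : ∀ a b : F, a • e + b • w = 0 → a = 0 ∧ b = 0 := by
    intro a b hab
    have hb : b = 0 := by
      have h1 : b • w = (-a) • e := by
        rw [neg_smul, eq_neg_iff_add_eq_zero, add_comm]; exact hab
      have h2 : b * b * Q w = 0 := by
        rw [← smul_eq_mul, ← QuadraticMap.map_smul, h1, QuadraticMap.map_smul, heQ, smul_zero]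
      rcases mul_eq_zero.1 h2 with h | h
      · exact mul_self_eq_zero.1 h
      · exact absurd h hwQ
    rw [hb, zero_smul, add_zero] at hab
    exact ⟨(smul_eq_zero.1 hab).resolve_right he0', hb⟩
  have hli : LinearIndependent F ![e, w] := LinearIndependent.pair_iff.2 hind
  set S : Submodule F (ι → F) := Submodule.span F (Set.range ![e, w]) with hS
  have hSd : finrank F S = 2 := by
    have := finrank_span_eq_card hli
    rwa [Fintype.card_fin] at this
  have heS : e ∈ S := Submodule.subset_span ⟨0, rfl⟩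
  have hwS : w ∈ S := Submodule.subset_span ⟨1, rfl⟩
  have hSle : S ≤ fx (lin y) := by
    rw [hS, Submodule.span_le]
    rintro _ ⟨i, rfl⟩
    fin_cases i
    · exact e'.2
    · exact w'.2
  have hperp : ∀ v, v ∈ perp Q S ↔ polar Q e v = 0 ∧ polar Q w v = 0 := by
    intro v
    constructor
    · intro h; exact ⟨h e heS, h w hwS⟩
    · rintro ⟨h1, h2⟩ z hz
      rw [hS] at hz
      induction hz using Submodule.span_induction with
      | mem z hz =>
        obtain ⟨i, rfl⟩ := hz
        fin_cases i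
        · exact h1
        · exact h2
      | zero => exact polar_zero_left _ _
      | add a b _ _ ha hb => rw [polar_add_left, ha, hb, add_zero]
      | smul c a _ ha => rw [polar_smul_left, ha, smul_zero]
  -- the Siegel transformation
  set T := siegel Q e w heQ hewQ with hT
  have hTO : T ∈ O Q := siegel_mem_O heQ hewQ
  have hfix : ∀ v, T v = v ↔ polar Q e v = 0 ∧ polar Q w v = 0 := by
    intro v
    rw [hT, siegel_apply]
    constructor
    · intro h
      have h1 : (-(polar Q w v) - Q w * polar Q e v) • e + polar Q e v • w = 0 := by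
        have h2 : v + polar Q e v • w - polar Q w v • e - (Q w * polar Q e v) • e - v = 0 := by rw [h, sub_self]
        rw [← h2]; module
      obtain ⟨h3, h4⟩ := hind _ _ h1
      rw [h4, mul_zero, sub_zero, neg_eq_zero] at h3
      exact ⟨h4, h3⟩
    · rintro ⟨h1, h2⟩
      rw [h1, h2]; simp
  have hTp : T ^ p = 1 := by
    apply LinearEquiv.ext
    intro v
    rw [hT, siegel_pow, CharP.cast_eq_zero, zero_smul, siegelLin_apply, polar_zero_left, QuadraticMap.map_zero]
    simp
  have hdimP : finrank F (perp Q S) = 7 := by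
    rw [finrank_perp hQ, hfin, hSd]
  have hT1 : T ≠ 1 := by
    intro h
    have h1 : perp Q S = ⊤ := by
      rw [eq_top_iff]
      intro v _
      rw [hperp, ← hfix, h]
      rfl
    rw [h1, finrank_top, hfin] at hdimP
    omega
  obtain ⟨u, hu, hup, hu1, huT⟩ := exists_matrix hTO hTp hT1
  have hulin : ∀ v, lin u v = T v := by intro v; rw [huT]; rfl
  refine ⟨u, hy, hu, hp, hpF, hup, hu1, ?_, ?_, ?_⟩
  · apply lin_injective
    rw [lin_mul, lin_mul]
    apply LinearMap.ext
    intro v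
    have h1 : ∀ z, lin y z = z → ∀ v, polar Q z (lin y v) = polar Q z v := by
      intro z hz v
      conv_lhs => rw [← hz]
      exact polar_isom hy.iso.iso z v
    rw [Module.End.mul_apply, Module.End.mul_apply, hulin, hulin, hT, siegel_apply, siegel_apply, h1 e hye, h1 w hyw,
      map_sub, map_sub, map_add, map_smul, map_smul, map_smul, hye, hyw]
  · have h1 : fx (lin u) = perp Q S := by
      ext v
      rw [H951.mem_fx, hperp, ← hfix, hulin]
    rw [h1, hdimP]
  · intro v hv1 hv2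
    rw [hulin, hfix] at hv2
    have h1 := finrank_inf_perp hnfx hSle
    have hd1 : finrank F ↥(fx (lin y) ⊓ perp Q S) = 1 := by omega
    have he1 : e ∈ fx (lin y) ⊓ perp Q S := by
      refine ⟨e'.2, (hperp e).2 ⟨?_, ?_⟩⟩
      · rw [polar_self, heQ, smul_zero]
      · rw [polar_comm]; exact hewQ
    obtain ⟨c, hc⟩ := (finrank_eq_one_iff_of_nonzero' (⟨e, he1⟩ : ↥(fx (lin y) ⊓ perp Q S)) (by
        intro h; exact he0' (congrArg Subtype.val h))).1 hd1 ⟨v, H951.mem_fx.2 hv1, (hperp v).2 hv2⟩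
    have hcv : c • e = v := congrArg Subtype.val hc
    rw [← hcv, QuadraticMap.map_smul, heQ, smul_zero]

/-- **the second witness** -/
theorem exists_b (hQ : Nondeg Q) (h9 : Fintype.card ι = 9) (h2 : (2 : F) ≠ 0) {r : ℕ} (hr : PP (Nat.card F) 6 r)
    {p : ℕ} (hp : p.Prime) (hpF : CharP F p) : ∃ y u : GL ι F, BElt Q y u r 6 p := by
  obtain ⟨y, hy, hyr, hy1, hyd⟩ := exists_g (A := 1) hQ hr (by decide) (by norm_num) le_rfl
    (Or.inr ⟨h2, by rw [h9]; norm_num⟩)
  obtain ⟨u, hu⟩ := exists_partner hQ h9 (Elt.of hr (by norm_num) hy hyr hy1 hyd) hp hpF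
  exact ⟨y, u, hu⟩

/-- the fourth witness -/
theorem exists_b3 (hQ : Nondeg Q) (h9 : Fintype.card ι = 9) (h2 : (2 : F) ≠ 0) {r : ℕ} (hr : PP (Nat.card F) 3 r)
    {p : ℕ} (hp : p.Prime) (hpF : CharP F p) : ∃ y u : GL ι F, BElt Q y u r 6 p := by
  obtain ⟨y, hy, hyr, hy1, hyd⟩ := exists_g_odd (A := 1) hQ hr (by decide) (by norm_num) le_rfl
    (Or.inr ⟨h2, by rw [h9]; norm_num⟩)
  obtain ⟨u, hu⟩ := exists_partner hQ h9 (Elt.of hr (by norm_num) hy hyr hy1 hyd) hp hpF
  exact ⟨y, u, hu⟩

/-- **the first witness** -/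
theorem exists_a (hQ : Nondeg Q) (h9 : Fintype.card ι = 9) (h2 : (2 : F) ≠ 0) {r : ℕ} (hr : PP (Nat.card F) 8 r) :
    ∃ x : GL ι F, Elt Q x r 8 := by
  obtain ⟨y, hy, hyr, hy1, hyd⟩ := exists_g (A := 1) hQ hr (by decide) (by norm_num) le_rfl
    (Or.inr ⟨h2, by rw [h9]; norm_num⟩)
  exact ⟨y, Elt.of hr (by norm_num) hy hyr hy1 hyd⟩

/-- the third witness -/
theorem exists_c (hQ : Nondeg Q) (h9 : Fintype.card ι = 9) (h2 : (2 : F) ≠ 0) {r : ℕ} (hr : PP (Nat.card F) 4 r) :
    ∃ x : GL ι F, Elt Q x r 8 := by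
  obtain ⟨y, hy, hyr, hy1, hyd⟩ := exists_g (A := 2) hQ hr (by decide) (by norm_num) (by norm_num)
    (Or.inr ⟨h2, by rw [h9]; norm_num⟩)
  exact ⟨y, Elt.of hr (by norm_num) hy hyr hy1 hyd⟩

end Cfsg.Agent.H781.Cov9
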