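import Cfsg.Agent.H781.Cov9.Over
import Cfsg.Agent.H781.Cov9.Wit
import Cfsg.Agent.H278.Cov.Defs

/-!
# S2499, row `Ω_9(q)`: `NoTwo` from the list of maximal subgroups (helper781)
-/

set_option autoImplicit false
set_option linter.unusedSectionVars false

namespace Cfsg.Agent.H781.Cov9

open Module QuadraticMap Cfsg Cfsg.Geo Cfsg.Agent.LieClassical.OrthCore Cfsg.Agent.H955 Cfsg.Agent.H954.TSing
open Cfsg.Agent.H884.El Cfsg.Agent.H278.Cov
open Cfsg.Agent.H951 (fx cm Inv)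
open scoped MatrixGroups Matrix

universe u

theorem isMaximalIn_map {G : Type*} [Group G] {K : Subgroup G} {H : Subgroup K} (h : IsCoatom H) :
    IsMaximalIn K (H.map K.subtype) := by
  have hle : H.map K.subtype ≤ K := by
    rintro _ ⟨x, -, rfl⟩
    exact x.2
  have hback : ∀ M : Subgroup G, M ≤ K → (M.subgroupOf K).map K.subtype = M := by
    intro M hM
    rw [Subgroup.subgroupOf_map_subtype, inf_eq_left.2 hM]
  refine ⟨lt_of_le_of_ne hle ?_, fun M hHM hMK => ?_⟩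
  · intro he
    apply h.1
    rw [eq_top_iff]
    intro x _
    have hx : (x : G) ∈ H.map K.subtype := by rw [he]; exact x.2
    obtain ⟨z, hz, hzx⟩ := hx
    have : z = x := Subtype.ext hzx
    rwa [← this]
  · have h1 : H ≤ M.subgroupOf K := by
      intro z hz
      rw [Subgroup.mem_subgroupOf]
      exact hHM ⟨z, hz, rfl⟩
    rcases h.le_iff.1 h1 with h2 | h2
    · right
      rw [← hback M hMK, h2]
      ext z
      constructor
      · rintro ⟨x, -, rfl⟩; exact x.2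
      · intro hz; exact ⟨⟨z, hz⟩, trivial, rfl⟩
    · left
      rw [← hback M hMK, h2]

variable {F : Type u} [Field F] [Fintype F] {Q : QuadraticForm F (I9 → F)}

theorem mem_map_conj {G : Type*} [Group G] {K : Subgroup G} {H : Subgroup ↥K} {g : ↥K} {x : G} {hx : x ∈ K}
    (h : g * ⟨x, hx⟩ * g⁻¹ ∈ H) : (g : G) * x * (g : G)⁻¹ ∈ H.map K.subtype :=
  ⟨_, h, rfl⟩

theorem omegaGL_le : omegaGL (⇑Q) ≤ isometryGroup F (⇑Q) := by
  rintro _ ⟨x, -, rfl⟩
  exact x.2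

theorem conj_elt {x : GL I9 F} {r d : ℕ} (hx : Elt Q x r d) {g : ↥(omegaGL (⇑Q))} {hxΩ : x ∈ omegaGL (⇑Q)}
    {H : Subgroup ↥(omegaGL (⇑Q))} (hg : g * ⟨x, hxΩ⟩ * g⁻¹ ∈ H) :
    ∃ x' : GL I9 F, Elt Q x' r d ∧ x' ∈ H.map (omegaGL (⇑Q)).subtype := by
  have hgI : (g : GL I9 F) ∈ isometryGroup F (⇑Q) := omegaGL_le g.2
  refine ⟨(g : GL I9 F) * x * (g : GL I9 F)⁻¹, hx.conj hgI, ?_⟩
  exact mem_map_conj hg

theorem conj_belt {y u : GL I9 F} {r d p : ℕ} (hb : BElt Q y u r d p) (hrp : r ≠ p) {g : ↥(omegaGL (⇑Q))}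
    {hyu : y * u ∈ omegaGL (⇑Q)} {H : Subgroup ↥(omegaGL (⇑Q))} (hg : g * ⟨y * u, hyu⟩ * g⁻¹ ∈ H) :
    ∃ y' u' : GL I9 F, BElt Q y' u' r d p ∧ y' ∈ H.map (omegaGL (⇑Q)).subtype ∧
      u' ∈ H.map (omegaGL (⇑Q)).subtype := by
  have hgI : (g : GL I9 F) ∈ isometryGroup F (⇑Q) := omegaGL_le g.2
  have h1 : (g : GL I9 F) * (y * u) * (g : GL I9 F)⁻¹ ∈ H.map (omegaGL (⇑Q)).subtype := mem_map_conj hg
  have h3 : (g : GL I9 F) * (y * u) * (g : GL I9 F)⁻¹ = ((g : GL I9 F) * y * (g : GL I9 F)⁻¹) *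
    ((g : GL I9 F) * u * (g : GL I9 F)⁻¹) := by group
  rw [h3] at h1
  have h4 := (hb.conj hgI).mem_of_mul hrp h1
  exact ⟨(g : GL I9 F) * y * (g : GL I9 F)⁻¹, (g : GL I9 F) * u * (g : GL I9 F)⁻¹, hb.conj hgI, h4.1, h4.2⟩

/-- **`Ω_9(q)` is not covered by two classes of proper subgroups**, from the list of its maximal subgroups -/
theorem noTwo_nine (hQ : Nondeg Q) (h2 : (2 : F) ≠ 0)
    (hΩ : ∀ (g : GL I9 F) (r : ℕ), g ∈ isometryGroup F (⇑Q) → Odd r → g ^ r = 1 → g ∈ omegaGL (⇑Q))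
    (hGeo : ∀ H : Subgroup (GL I9 F), IsMaximalIn (omegaGL (⇑Q)) H → GeoCases (⇑Q) H) :
    NoTwo ↥(omegaGL (⇑Q)) := by
  obtain ⟨p, a, hp, ha, hpa⟩ := exists_char F
  have hF : Fintype.card F = p ^ a := by rw [← Nat.card_eq_fintype_card]; exact hpa
  have hpf := Fact.mk hp
  have hch : CharP F p := charP_of_card_eq_prime_pow hF
  have hp2 : p ≠ 2 := by
    rintro rfl
    apply h2
    have := CharP.cast_eq_zero F 2
    exact_mod_cast this
  have hpa2 : p ^ a ≠ 2 := by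
    intro h
    have h3 : p ∣ 2 := by rw [← h]; exact dvd_pow_self p (by omega)
    exact hp2 ((Nat.prime_dvd_prime_iff_eq hp Nat.prime_two).1 h3)
  have hodd : Odd p := hp.odd_of_ne_two hp2
  obtain ⟨r8, hr8⟩ := exists_ppp (e := 8) hp ha (by norm_num) (by omega) (fun b hb => by omega)
  obtain ⟨r6, hr6⟩ := exists_ppp (e := 6) hp ha (by norm_num) (fun h => hpa2 h.1) (fun b hb => by omega)
  obtain ⟨r4, hr4⟩ := exists_ppp (e := 4) hp ha (by norm_num) (by omega) (fun b hb => by omega)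
  have hr8q : PP (Nat.card F) 8 r8 := by rw [hpa]; exact hr8.of_pow ha
  have hr6q : PP (Nat.card F) 6 r6 := by rw [hpa]; exact hr6.of_pow ha
  have hr4q : PP (Nat.card F) 4 r4 := by rw [hpa]; exact hr4.of_pow ha
  obtain ⟨x, hx⟩ := exists_a hQ card_nine h2 hr8q
  obtain ⟨y, u, hb⟩ := exists_b hQ card_nine h2 hr6q hp hch
  obtain ⟨z, hz⟩ := exists_c hQ card_nine h2 hr4q
  have n8 := num8 hr8 ha
  obtain ⟨n6, n6'⟩ := num6 hr6 ha
  obtain ⟨n4, n4'⟩ := num4 hr4 ha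
  have hr6p : r6 ≠ p := by
    rintro rfl
    exact hr6.not_dvd (by omega) dvd_rfl
  have h86 : r8 ≠ r6 := hr8.ne_of_ne hr6 (by omega)
  have h84 : r8 ≠ r4 := hr8.ne_of_ne hr4 (by omega)
  have hxΩ : x ∈ omegaGL (⇑Q) := hΩ x r8 hx.mem (hr8q.odd (by norm_num)) hx.pow
  have hyΩ : y ∈ omegaGL (⇑Q) := hΩ y r6 hb.elt.mem (hr6q.odd (by norm_num)) hb.elt.pow
  have huΩ : u ∈ omegaGL (⇑Q) := hΩ u p hb.mem hodd hb.pow
  have hzΩ : z ∈ omegaGL (⇑Q) := hΩ z r4 hz.mem (hr4q.odd (by norm_num)) hz.pow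
  have hbd : ∀ r : ℕ, r.Prime → r ≠ 2 → r ≠ 3 → r ∣ 2 ^ 5 * (3 ^ 2 * 17) → r = 17 := by
    intro r hr hr2 hr3 h
    rcases of_dvd_23 hr h with h | h | h
    · exact absurd h hr2
    · exact absurd h hr3
    · exact (Nat.prime_dvd_prime_iff_eq hr (by norm_num)).1 h
  have hyuΩ : y * u ∈ omegaGL (⇑Q) := Subgroup.mul_mem _ hyΩ huΩ
  refine noTwo_of_two (a := (⟨x, hxΩ⟩ : ↥(omegaGL (⇑Q)))) (b := ⟨y * u, hyuΩ⟩) ?_ ?_
  · -- incompatible
    intro H hH
    by_contra hcon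
    push Not at hcon
    obtain ⟨ha', hb'⟩ := hcon
    obtain ⟨g, hg⟩ := not_av ha'
    obtain ⟨k, hk⟩ := not_av hb'
    obtain ⟨x', hx', hxM⟩ := conj_elt hx hg
    obtain ⟨y', u', hb'', hyM, huM⟩ := conj_belt hb hr6p hk
    rcases over_a hQ (hGeo _ (isMaximalIn_map hH)) hp ha hF hr8 hx' hxM with ⟨W, hW8, hWn, -, hle⟩ | ⟨h17, hB⟩
    · exact hb''.not_eight hQ hr6q (by norm_num) hW8 hWn (hle hyM) (hle huM)
    · have h1 := hbd r6 hr6.prime (by omega) (by omega)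
        (hB y' r6 hyM (hb''.elt.not_scalar (by rw [card_nine]; norm_num)) hr6.prime hb''.elt.pow)
      exact h86 (h17.trans h1.symm)
  · intro H K hH hK hxH hbK
    have hxM : x ∈ H.map (omegaGL (⇑Q)).subtype := ⟨_, hxH, rfl⟩
    have hyuM : y * u ∈ K.map (omegaGL (⇑Q)).subtype := ⟨_, hbK, rfl⟩
    obtain ⟨hyM, huM⟩ := hb.mem_of_mul hr6p hyuM
    have hA := over_a hQ (hGeo _ (isMaximalIn_map hH)) hp ha hF hr8 hx hxM
    have hB := over_b hQ (hGeo _ (isMaximalIn_map hK)) hp hp2 ha hF hr6 hb hyM huM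
    rcases hB with ⟨W, hW, hleK⟩ | ⟨h3, hBK⟩
    · -- the third witness
      refine ⟨⟨z, hzΩ⟩, ?_, ?_⟩
      · intro g hg
        obtain ⟨z', hz', hzM⟩ := conj_elt hz hg
        rcases hA with ⟨W', hW8, -, hWP, hleH⟩ | ⟨h17, hBH⟩
        · exact (not_c hQ hr4q hz' (hleH hzM)).1 ⟨hW8, hWP⟩
        · have h1 := hbd r4 hr4.prime (by omega) (by omega)
            (hBH z' r4 hzM (hz'.not_scalar (by rw [card_nine]; norm_num)) hr4.prime hz'.pow)
          exact h84 (h17.trans h1.symm)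
      · intro g hg
        obtain ⟨z', hz', hzM⟩ := conj_elt hz hg
        obtain ⟨-, h4, h5⟩ := not_c hQ hr4q hz' (hleK hzM)
        rcases hW with hW | hW
        · exact h4 hW
        · exact h5 hW
    · -- `q = 3`
      have hp3 : p = 3 := by
        have h4 : p ∣ 3 := by rw [← h3, hF]; exact dvd_pow_self p (by omega)
        exact (Nat.prime_dvd_prime_iff_eq hp Nat.prime_three).1 h4
      have hc3 : Nat.card F = 3 := by rw [Nat.card_eq_fintype_card, h3]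
      have h13 : PP (Nat.card F) 3 13 := by
        rw [hc3]
        refine ⟨by norm_num, ?_⟩
        have : Fact (Nat.Prime 3) := ⟨Nat.prime_three⟩
        exact orderOf_eq_prime (by decide) (by decide)
      rcases hA with ⟨W', hW8, hWn, hWP, hleH⟩ | ⟨h17, hBH⟩
      · obtain ⟨y', u', hb'⟩ := exists_b3 hQ card_nine h2 h13 hp hch
        have hyΩ' : y' ∈ omegaGL (⇑Q) := hΩ y' 13 hb'.elt.mem (by decide) hb'.elt.pow
        have huΩ' : u' ∈ omegaGL (⇑Q) := hΩ u' p hb'.mem hodd hb'.pow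
        refine ⟨⟨y' * u', Subgroup.mul_mem _ hyΩ' huΩ'⟩, ?_, ?_⟩
        · intro g hg
          obtain ⟨y'', u'', hb'', hyM', huM'⟩ := conj_belt hb' (by omega) hg
          exact hb''.not_eight hQ h13 (by norm_num) hW8 hWn (hleH hyM') (hleH huM')
        · intro g hg
          obtain ⟨y'', u'', hb'', hyM', huM'⟩ := conj_belt hb' (by omega) hg
          have h4 := hBK y'' 13 hyM' (hb''.elt.not_scalar (by rw [card_nine]; norm_num)) (by norm_num) hb''.elt.pow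
          have h5 := (Nat.Prime.dvd_factorial (by norm_num)).1 h4
          omega
      · exfalso
        have h4 := hr8q.ord
        rw [hc3, h17] at h4
        have h5 : ((3 : ℕ) : ZMod 17) ^ 8 = 1 := by rw [← h4]; exact pow_orderOf_eq_one _
        exact absurd h5 (by decide)

end Cfsg.Agent.H781.Cov9
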