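import Cfsg.Agent.H781.Cov9.ResNine

/-!
# S2499, row `Ω_9(q)`: the maximal overgroups of the two witnesses (helper781)
-/

set_option autoImplicit false
set_option linter.unusedSectionVars false

namespace Cfsg.Agent.H781.Cov9

open Module QuadraticMap Cfsg Cfsg.Geo Cfsg.Agent.LieClassical.OrthCore Cfsg.Agent.H955 Cfsg.Agent.H954.TSing
open Cfsg.Agent.H884.El
open Cfsg.Agent.H951 (fx cm Inv)
open scoped MatrixGroups Matrix

universe u

/-- the nine coordinates -/
abbrev I9 : Type := Unit ⊕ (Fin 4 ⊕ Fin 4)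

variable {F : Type u} [Field F] [Fintype F] {Q : QuadraticForm F (I9 → F)}

/-- the conclusion of S5835 -/
def GeoCases (Q : (I9 → F) → F) (H : Subgroup (GL I9 F)) : Prop :=
    (∃ W : Submodule F (I9 → F), W ≠ ⊥ ∧ Cfsg.Geo.IsTotallySingularQuad Q W ∧ H = Cfsg.Geo.subspaceStabilizer W ⊓ Cfsg.Geo.omegaGL Q) ∨
    (∃ W : Submodule F (I9 → F), W ≠ ⊥ ∧ Even (Module.finrank F W) ∧ Cfsg.Geo.IsNondegenerateOn (QuadraticMap.polar Q) W ∧ ¬ (Fintype.card F = 3 ∧ Module.finrank F W = 2 ∧ Cfsg.Geo.IsPlusTypeOn Q W) ∧ H = Cfsg.Geo.subspaceStabilizer W ⊓ Cfsg.Geo.omegaGL Q) ∨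
    ((Fintype.card F).Prime ∧ ∃ D : Fin 9 → Submodule F (I9 → F), Cfsg.Geo.IsOrthogonalMDecomposition Q 1 D ∧ H = Cfsg.Geo.decompositionStabilizer D ⊓ Cfsg.Geo.omegaGL Q) ∨
    (5 ≤ Fintype.card F ∧ ∃ D : Fin 3 → Submodule F (I9 → F), Cfsg.Geo.IsOrthogonalMDecomposition Q 3 D ∧ H = Cfsg.Geo.decompositionStabilizer D ⊓ Cfsg.Geo.omegaGL Q) ∨
    (∃ K : Subalgebra F (Matrix I9 I9 F), Cfsg.Geo.IsFieldSubalgebra 3 K ∧ Cfsg.Geo.IsSelfAdjointFor (QuadraticMap.polar Q) K ∧ H = Cfsg.Geo.subalgebraNormalizer K ⊓ Cfsg.Geo.omegaGL Q) ∨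
    (∃ (F₀ : Subfield F) (r : ℕ) (P : Matrix.GeneralLinearGroup I9 F), r.Prime ∧ Fintype.card F = Nat.card F₀ ^ r ∧ Cfsg.Geo.IsQuadFormRationalStructure Q F₀ P ∧ H = Cfsg.Geo.subfieldSubgroup F₀ P ⊓ Cfsg.Geo.omegaGL Q) ∨
    (5 ≤ Fintype.card F ∧ ∃ (e : I9 ≃ (Fin 2 → Fin 3)) (P : Matrix.GeneralLinearGroup I9 F) (f₁ : (Fin 3 → F) → (Fin 3 → F) → F), Cfsg.Geo.IsSymmetricForm f₁ ∧ Cfsg.Geo.IsTensorPowerFormStructure id (QuadraticMap.polar Q) f₁ e P ∧ H = Cfsg.Geo.tensorWreathSubgroup 3 2 e P ⊓ Cfsg.Geo.omegaGL Q) ∨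
    ResCases H

/-- three classes killed by one large prime -/
theorem kill {H : Subgroup (GL I9 F)} {p a e r d : ℕ} (hp : p.Prime) (ha : 1 ≤ a) (hF : Fintype.card F = p ^ a)
    (hr : PP p (a * e) r) (he : 5 ≤ e) {x : GL I9 F} (hx : Elt Q x r d) (hxH : x ∈ H) :
    (∀ D : Fin 9 → Submodule F (I9 → F), IsOrthogonalMDecomposition (⇑Q) 1 D →
      H ≤ decompositionStabilizer D → r ≤ 9) ∧
    (∀ D : Fin 3 → Submodule F (I9 → F), IsOrthogonalMDecomposition (⇑Q) 3 D →
      H ≤ decompositionStabilizer D → r ≤ 3) ∧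
    (∀ (F₀ : Subfield F) (s : ℕ) (P : GL I9 F), s.Prime → Fintype.card F = Nat.card F₀ ^ s →
      H ≤ subfieldSubgroup F₀ P → False) ∧
    (∀ (i : I9 ≃ (Fin 2 → Fin 3)) (P : GL I9 F), H ≤ tensorWreathSubgroup 3 2 i P → r ≤ 2) := by
  have hdvd := hx.dvd_card hxH
  have hrq : PP (Nat.card F) e r := by rw [Nat.card_eq_fintype_card, hF]; exact hr.of_pow ha
  have hq := one_lt_q F
  refine ⟨fun D hD hle => ?_, fun D hD hle => ?_, fun F₀ s P hs hc hle => ?_, fun i P hle => ?_⟩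
  · exact decomp_le hD.decomp.decomp hle hrq (by omega) hdvd
  · exact decomp_le hD.decomp.decomp hle hrq (by omega) hdvd
  · exact kill_subfield hle hs (by rw [Nat.card_eq_fintype_card]; exact hc) hp
      (by rw [Nat.card_eq_fintype_card]; exact hF) hr (by rw [card_nine]; omega) (by omega) hdvd
  · rcases H251.GeoCard.wreath i P hr.prime (hrq.not_dvd (by omega))
      (hdvd.trans (Subgroup.card_dvd_of_le hle)) with h | h
    · exact h
    · have := le_of_div hrq hq.le h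
      omega

theorem le_left {G : Type*} [Group G] {H A B : Subgroup G} (h : H = A ⊓ B) : H ≤ A := h.le.trans inf_le_left

/-- **the maximal overgroups of the first witness** -/
theorem over_a (hQ : Nondeg Q) {H : Subgroup (GL I9 F)} (h : GeoCases (⇑Q) H) {p a r : ℕ} (hp : p.Prime)
    (ha : 1 ≤ a) (hF : Fintype.card F = p ^ a) (hr : PP p (a * 8) r) {x : GL I9 F}
    (hx : Elt Q x r 8) (hxH : x ∈ H) :
    (∃ W : Submodule F (I9 → F), finrank F W = 8 ∧ Nondeg (res Q W) ∧ ¬ IsPlus (res Q W) ∧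
      H ≤ subspaceStabilizer W) ∨ (r = 17 ∧ Bd H (2 ^ 5 * (3 ^ 2 * 17))) := by
  have h17 := num8 hr ha
  have hrq : PP (Nat.card F) 8 r := by rw [Nat.card_eq_fintype_card, hF]; exact hr.of_pow ha
  obtain ⟨k1, k2, k3, k4⟩ := kill hp ha hF hr (by norm_num) hx hxH
  have hfin : finrank F (I9 → F) = 9 := by rw [finrank_V, card_nine]
  have hadd := hx.finrank_add
  rw [card_nine] at hadd
  obtain ⟨hcm, hcmP⟩ := hx.iso.even_case hQ (lin_ne_one hx.ne) hrq (by decide) (by rw [hfin]; norm_num)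
  have hnfx := nondeg_fx hQ hx.iso.iso hx.iso.ne0 hx.iso.pow
  have hncm := nondeg_cm hQ hx.iso.iso hx.iso.ne0 hx.iso.pow
  rcases h with ⟨W, hW0, hWs, hH⟩ | ⟨W, hW0, hWe, hWn, -, hH⟩ | ⟨-, D, hD, hH⟩ | ⟨-, D, hD, hH⟩ | ⟨K, hK, -, hH⟩ |
    ⟨F₀, s, P, hs, hc, -, hH⟩ | ⟨-, i, P, f₁, -, -, hH⟩ | h
  · exfalso
    have h1 := hx.iso.ts_le hQ (lin_ne_one hx.ne) hrq hcm (inv_of_mem (le_left hH hxH)) hWs
    have h2 := Submodule.finrank_mono h1
    have h3 : finrank F W ≠ 0 := fun h => hW0 (Submodule.finrank_eq_zero.1 h)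
    have h4 : W = fx (lin x) := Submodule.eq_of_le_of_finrank_eq h1 (by omega)
    refine ts_not_nondeg (Q := Q) (W := W) (U := fx (lin x)) hWs (by rw [h4]) ?_ hnfx
    rw [← h4]; exact hW0
  · left
    rcases hx.iso.le_or hrq hcm (inv_of_mem (le_left hH hxH)) with h1 | h1
    · exfalso
      have h2 := Submodule.finrank_mono h1
      have h3 : finrank F W ≠ 0 := fun h => hW0 (Submodule.finrank_eq_zero.1 h)
      obtain ⟨k, hk⟩ := hWe
      omega
    · have h2 := Submodule.finrank_mono h1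
      have h3 : finrank F W ≤ 9 := by rw [← hfin]; exact Submodule.finrank_le _
      obtain ⟨k, hk⟩ := hWe
      have h4 : cm (lin x) = W := Submodule.eq_of_le_of_finrank_eq h1 (by omega)
      refine ⟨W, by omega, nondeg_of_geo hWn, ?_, le_left hH⟩
      rw [← h4]
      exact hcmP
  · have := k1 D hD (le_left hH)
    omega
  · have := k2 D hD (le_left hH)
    omega
  · exfalso
    have h1 := hx.three_dvd (by omega) hK (le_left hH hxH)
    omega
  · exact (k3 F₀ s P hs hc (le_left hH)).elim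
  · have := k4 i P (le_left hH)
    omega
  · right
    exact res_a h hp ha hF hr hx hxH

/-- **the maximal overgroups of the second witness** -/
theorem over_b (hQ : Nondeg Q) {H : Subgroup (GL I9 F)} (h : GeoCases (⇑Q) H) {p a r : ℕ} (hp : p.Prime)
    (hp2 : p ≠ 2) (ha : 1 ≤ a) (hF : Fintype.card F = p ^ a) (hr : PP p (a * 6) r) {y u : GL I9 F}
    (hb : BElt Q y u r 6 p) (hyH : y ∈ H) (huH : u ∈ H) :
    (∃ W : Submodule F (I9 → F), ((finrank F W = 1 ∧ TS Q W) ∨ finrank F W = 6) ∧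
      H ≤ subspaceStabilizer W) ∨ (Fintype.card F = 3 ∧ Bd H (Nat.factorial 10)) := by
  obtain ⟨h6, h7⟩ := num6 hr ha
  have hx := hb.elt
  have hrq : PP (Nat.card F) 6 r := by rw [Nat.card_eq_fintype_card, hF]; exact hr.of_pow ha
  obtain ⟨k1, k2, k3, k4⟩ := kill hp ha hF hr (by norm_num) hx hyH
  have hfin : finrank F (I9 → F) = 9 := by rw [finrank_V, card_nine]
  have hadd := hx.finrank_add
  rw [card_nine] at hadd
  obtain ⟨hcm, hcmP⟩ := hx.iso.even_case hQ (lin_ne_one hx.ne) hrq (by decide) (by rw [hfin]; norm_num)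
  have hnfx := nondeg_fx hQ hx.iso.iso hx.iso.ne0 hx.iso.pow
  have hncm := nondeg_cm hQ hx.iso.iso hx.iso.ne0 hx.iso.pow
  have hup : 0 < p := hp.pos
  have hlu : lin u ^ p = 1 := by rw [lin_pow, hb.pow, lin_one]
  have hiu : ∀ v, Q (lin u v) = Q v := lin_iso le_rfl hb.mem
  rcases h with ⟨W, hW0, hWs, hH⟩ | ⟨W, hW0, hWe, hWn, -, hH⟩ | ⟨-, D, hD, hH⟩ | ⟨-, D, hD, hH⟩ | ⟨K, hK, -, hH⟩ |
    ⟨F₀, s, P, hs, hc, -, hH⟩ | ⟨-, i, P, f₁, -, -, hH⟩ | h
  · left
    refine ⟨W, Or.inl ⟨?_, hWs⟩, le_left hH⟩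
    have h1 := hx.iso.ts_le hQ (lin_ne_one hx.ne) hrq hcm (inv_of_mem (le_left hH hyH)) hWs
    have h3 : finrank F W ≠ 0 := fun h => hW0 (Submodule.finrank_eq_zero.1 h)
    -- a totally singular subspace of a nondegenerate 3-space
    have h2 := finrank_inf_perp hnfx h1
    have h4 : W ≤ fx (lin y) ⊓ perp Q W := fun w hw => ⟨h1 hw, fun v hv => TS.polar hWs hv hw⟩
    have h5 := Submodule.finrank_mono h4
    omega
  · have hWy := inv_of_mem (le_left hH hyH)
    have hWu := inv_of_mem (le_left hH huH)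
    have hWn' := nondeg_of_geo hWn
    have hev := hWe
    obtain ⟨k, hk⟩ := hWe
    have h3 : finrank F W ≠ 0 := fun h => hW0 (Submodule.finrank_eq_zero.1 h)
    have h9 : finrank F W ≤ 9 := by rw [← hfin]; exact Submodule.finrank_le _
    have hW8 : finrank F W ≠ 8 := by
      intro h8
      have h1 := finrank_add_perp hQ W
      rw [hfin] at h1
      have h2 := hb.no_line (W := perp Q W) hrq (by norm_num) (by omega)
        (inv_perp hx.iso.iso hx.iso.prime.pos hx.iso.pow hWy) (inv_perp hiu hup hlu hWu)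
      refine ts_not_nondeg (Q := Q) (W := perp Q W) (U := perp Q W) h2 le_rfl ?_ (nondeg_perp hQ hWn')
      intro h4
      rw [h4, finrank_bot] at h1
      omega
    rcases hx.iso.le_or hrq hcm hWy with h1 | h1
    · exfalso
      have h2 := Submodule.finrank_mono h1
      have hW2 : finrank F W = 2 := by omega
      have h4 := finrank_inf_perp hnfx h1
      have hfu : Inv (lin u) (fx (lin y)) := by
        intro v hv
        rw [H951.mem_fx] at hv ⊢
        rw [← lin_mul_apply, hb.comm, lin_mul_apply, hv]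
      have hfy : Inv (lin y) (fx (lin y)) := by
        intro v hv
        rw [H951.mem_fx] at hv ⊢
        rw [hv, hv]
      have h5 := hb.no_line (W := fx (lin y) ⊓ perp Q W) hrq (by norm_num) (by omega)
        (hfy.inf (inv_perp hx.iso.iso hx.iso.prime.pos hx.iso.pow hWy)) (hfu.inf (inv_perp hiu hup hlu hWu))
      -- but `fx y = W ⊥ (fx y ⊓ W^⊥)`
      obtain ⟨v, hv, hv0⟩ := exists_mem_ne (W := fx (lin y) ⊓ perp Q W) (by omega)
      apply hv0
      have hline : ∀ w ∈ fx (lin y) ⊓ perp Q W, polar Q v w = 0 := fun w hw => TS.polar h5 hv hw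
      have hsup : W ⊔ (fx (lin y) ⊓ perp Q W) = fx (lin y) := by
        apply Submodule.eq_of_le_of_finrank_eq (sup_le h1 inf_le_left)
        have h6 := Submodule.finrank_sup_add_finrank_inf_eq W (fx (lin y) ⊓ perp Q W)
        have h7 : W ⊓ (fx (lin y) ⊓ perp Q W) = ⊥ := by
          rw [eq_bot_iff]
          rintro w ⟨hw, -, hw2⟩
          rw [Submodule.mem_bot]
          refine nondeg_res_iff.1 hWn' w hw fun z hz => ?_
          rw [polar_comm]
          exact hw2 z hz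
        rw [h7, finrank_bot] at h6
        omega
      refine nondeg_res_iff.1 hnfx v hv.1 fun z hz => ?_
      rw [← hsup] at hz
      obtain ⟨z1, hz1, z2, hz2, rfl⟩ := Submodule.mem_sup.1 hz
      rw [polar_add_right, hline z2 hz2, add_zero, polar_comm]
      exact hv.2 z1 hz1
    · left
      have h2 := Submodule.finrank_mono h1
      exact ⟨W, Or.inr (by omega), le_left hH⟩
  · exfalso
    have h1 := k1 D hD (le_left hH)
    have h2 : r = 7 := by omega
    have hp7 : p ≠ 7 := by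
      rintro rfl
      rw [h2] at hr
      exact hr.not_dvd (by omega) dvd_rfl
    exact no_nine hD hx.mem hb.mem (le_left hH hyH) (le_left hH huH) hb.comm (by rw [← h2]; exact hx.pow) hx.ne
      hp hp2 hp7 hb.pow hb.ne
  · have := k2 D hD (le_left hH)
    omega
  · exact (no_cubic card_nine hb.dim hK (le_left hH huH)).elim
  · exact (k3 F₀ s P hs hc (le_left hH)).elim
  · have := k4 i P (le_left hH)
    omega
  · right
    exact res_b h hp hp2 ha hF hr hb hyH huH

/-- the pair is not in the stabiliser of an eight-dimensional nondegenerate subspace -/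
theorem BElt.not_eight (hQ : Nondeg Q) {y u : GL I9 F} {e r d p : ℕ} (hb : BElt Q y u r d p)
    (hr : PP (Nat.card F) e r) (he : 2 ≤ e) {W : Submodule F (I9 → F)} (hW8 : finrank F W = 8)
    (hWn : Nondeg (res Q W)) (hyW : y ∈ subspaceStabilizer W) (huW : u ∈ subspaceStabilizer W) : False := by
  have hfin : finrank F (I9 → F) = 9 := by rw [finrank_V, card_nine]
  have h1 := finrank_add_perp hQ W
  rw [hfin] at h1
  have hlu : lin u ^ p = 1 := by rw [lin_pow, hb.pow, lin_one]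
  have h2 := hb.no_line (W := perp Q W) hr he (by omega)
    (inv_perp hb.elt.iso.iso hb.elt.iso.prime.pos hb.elt.iso.pow (inv_of_mem hyW))
    (inv_perp (lin_iso le_rfl hb.mem) hb.prime.pos hlu (inv_of_mem huW))
  refine ts_not_nondeg (Q := Q) (W := perp Q W) (U := perp Q W) h2 le_rfl ?_ (nondeg_perp hQ hWn)
  intro h4
  rw [h4, finrank_bot] at h1
  omega

/-- dimensions of the invariant subspaces of the third witness -/
theorem dims_c {x : GL I9 F} {r : ℕ} (hr : PP (Nat.card F) 4 r) (hx : Elt Q x r 8)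
    {W : Submodule F (I9 → F)} (hW : x ∈ subspaceStabilizer W) :
    4 ∣ finrank F ↥(W ⊓ cm (lin x)) ∧ finrank F ↥(W ⊓ fx (lin x)) ≤ 1 ∧
      finrank F W = finrank F ↥(W ⊓ fx (lin x)) + finrank F ↥(W ⊓ cm (lin x)) := by
  have hinv := inv_of_mem hW
  have hadd := hx.finrank_add
  rw [card_nine] at hadd
  refine ⟨hx.iso.dvd hr hinv, ?_, ?_⟩
  · have := Submodule.finrank_mono (R := F) (inf_le_right : W ⊓ fx (lin x) ≤ fx (lin x))
    omega
  · have h1 := H951.inf_fx_sup_inf_cm hx.iso.ne0 hx.iso.pow hinv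
    have h2 := Submodule.finrank_sup_add_finrank_inf_eq (W ⊓ fx (lin x)) (W ⊓ cm (lin x))
    have h3 : (W ⊓ fx (lin x)) ⊓ (W ⊓ cm (lin x)) = ⊥ := by
      rw [eq_bot_iff]
      rintro v ⟨⟨-, hv1⟩, -, hv2⟩
      have h4 := (H951.isCompl_fx_cm hx.iso.ne0 hx.iso.pow).inf_eq_bot
      rw [← h4]
      exact ⟨hv1, hv2⟩
    rw [h1, h3, finrank_bot] at h2
    omega

/-- the third witness is in none of the stabilisers -/
theorem not_c (hQ : Nondeg Q) {x : GL I9 F} {r : ℕ} (hr : PP (Nat.card F) 4 r) (hx : Elt Q x r 8)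
    {W : Submodule F (I9 → F)} (hW : x ∈ subspaceStabilizer W) :
    ¬ (finrank F W = 8 ∧ ¬ IsPlus (res Q W)) ∧ ¬ (finrank F W = 1 ∧ TS Q W) ∧ finrank F W ≠ 6 := by
  obtain ⟨h1, h2, h3⟩ := dims_c hr hx hW
  refine ⟨?_, ?_, by omega⟩
  · rintro ⟨h8, hP⟩
    have h4 : finrank F ↥(W ⊓ cm (lin x)) = 8 := by omega
    have h5 : W ⊓ cm (lin x) = W := Submodule.eq_of_le_of_finrank_eq inf_le_left (by omega)
    have h6 : W = cm (lin x) := Submodule.eq_of_le_of_finrank_eq (by rw [← h5]; exact inf_le_right)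
      (by rw [hx.dim]; exact h8)
    apply hP
    rw [h6]
    exact hx.iso.even_two hQ hr (by decide) (by rw [hx.dim])
  · rintro ⟨hd, hs⟩
    have h4 : finrank F ↥(W ⊓ fx (lin x)) = 1 := by omega
    have h5 : W ⊓ fx (lin x) = W := Submodule.eq_of_le_of_finrank_eq inf_le_left (by omega)
    have hadd := hx.finrank_add
    rw [card_nine] at hadd
    have h6 : W = fx (lin x) := Submodule.eq_of_le_of_finrank_eq (by rw [← h5]; exact inf_le_right) (by omega)
    refine ts_not_nondeg (Q := Q) (W := W) (U := fx (lin x)) hs (by rw [h6]) ?_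
      (nondeg_fx hQ hx.iso.iso hx.iso.ne0 hx.iso.pow)
    intro h7
    rw [← h6] at h7
    rw [h7, finrank_bot] at hd
    omega

end Cfsg.Agent.H781.Cov9
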