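import Cfsg.Agent.H781.Cov9.Res
import Cfsg.Agent.H781.Cov9.Geo

/-!
# S2499, row `Ω_9(q)`: the residual class (S5836) over the two witnesses (helper781)
-/

set_option autoImplicit false
set_option linter.unusedSectionVars false

namespace Cfsg.Agent.H781.Cov9

open Module QuadraticMap Cfsg Cfsg.Geo
open Cfsg.Agent.H884.El
open scoped MatrixGroups Matrix

universe u

/-! ### Numbers -/

theorem num8 {p a r : ℕ} (h : PP p (a * 8) r) (ha : 1 ≤ a) : 17 ≤ r := by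
  have h1 := h.dvd_sub_one (by omega)
  have h2 : 8 ∣ r - 1 := (Dvd.intro_left a rfl).trans h1
  have h3 := h.prime.two_le
  have h4 : r ≠ 9 := by
    rintro rfl
    exact absurd h.prime (by norm_num)
  omega

theorem num6 {p a r : ℕ} (h : PP p (a * 6) r) (ha : 1 ≤ a) : r % 6 = 1 ∧ 7 ≤ r := by
  have h1 := h.dvd_sub_one (by omega)
  have h2 : 6 ∣ r - 1 := (Dvd.intro_left a rfl).trans h1
  have h3 := h.prime.two_le
  omega

theorem num4 {p a r : ℕ} (h : PP p (a * 4) r) (ha : 1 ≤ a) : r % 4 = 1 ∧ 5 ≤ r := by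
  have h1 := h.dvd_sub_one (by omega)
  have h2 : 4 ∣ r - 1 := (Dvd.intro_left a rfl).trans h1
  have h3 := h.prime.two_le
  omega

/-- `r_6 = 7` implies `q = p` of order `6` modulo `7` -/
theorem num7 {p a : ℕ} (h : PP p (a * 6) 7) (ha : 1 ≤ a) : a = 1 := by
  have h1 := h.dvd_sub_one (by omega)
  have h2 := Nat.le_of_dvd (by norm_num) h1
  omega

theorem pp_ne {p r e : ℕ} (h : PP p e r) {i : ℕ} (hi : p ^ i % r = 1 % r) (hei : ¬ e ∣ i) : False := by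
  apply hei
  rw [← h.ord, orderOf_dvd_iff_pow_eq_one]
  have := (ZMod.natCast_eq_natCast_iff' (p ^ i) 1 r).2 hi
  rw [Nat.cast_pow, Nat.cast_one] at this
  exact this

theorem not_dvd_psl {p a j e r : ℕ} (h : PP p (a * e) r) (hp : p.Prime) (ha : 1 ≤ a) (hj : 1 ≤ j) (hje : 2 * j < e) :
    ¬ r ∣ (a * j) * (p ^ (a * j) * ((p ^ (a * j)) ^ 2 - 1)) := by
  have hlt := h.lt (Nat.mul_pos ha (by omega))
  intro hd
  rcases (h.prime.dvd_mul).1 hd with h1 | h1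
  · have h2 := Nat.le_of_dvd (Nat.mul_pos ha hj) h1
    have h3 : a * j ≤ a * e := Nat.mul_le_mul_left a (by omega)
    omega
  · rcases (h.prime.dvd_mul).1 h1 with h2 | h2
    · exact h.not_dvd (Nat.mul_pos ha (by omega)) (h.prime.dvd_of_dvd_pow h2)
    · rw [← pow_mul, h.dvd_iff hp.one_le, mul_assoc] at h2
      have h3 := Nat.le_of_dvd (by omega) (Nat.dvd_of_mul_dvd_mul_left (by omega) h2)
      omega

theorem of_dvd_23 {r i j c : ℕ} (hr : r.Prime) (h : r ∣ 2 ^ i * (3 ^ j * c)) : r = 2 ∨ r = 3 ∨ r ∣ c := by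
  rcases (hr.dvd_mul).1 h with h1 | h1
  · exact Or.inl ((Nat.prime_dvd_prime_iff_eq hr Nat.prime_two).1 (hr.dvd_of_dvd_pow h1))
  · rcases (hr.dvd_mul).1 h1 with h2 | h2
    · exact Or.inr (Or.inl ((Nat.prime_dvd_prime_iff_eq hr Nat.prime_three).1 (hr.dvd_of_dvd_pow h2)))
    · exact Or.inr (Or.inr h2)

/-! ### The residual class -/

section

variable {F : Type u} [Field F] [Fintype F]

/-- the conclusion of S5836 -/
def ResCases (H : Subgroup (GL (Unit ⊕ (Fin 4 ⊕ Fin 4)) F)) : Prop :=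
    ∃ (P : Subgroup (Matrix.GeneralLinearGroup (Unit ⊕ (Fin 4 ⊕ Fin 4)) F)) (p : ℕ), Cfsg.Geo.IsResidualCore H P ∧ p.Prime ∧ CharP F p ∧
    (((∃ (K : Type) (_ : Field K) (_ : Fintype K), Fintype.card K = 8 ∧ Nonempty ((P ⧸ (Cfsg.Geo.scalars (Unit ⊕ (Fin 4 ⊕ Fin 4)) F).subgroupOf P) ≃* Matrix.ProjectiveSpecialLinearGroup (Fin 2) K)) ∧ ((Fintype.card F = p ∧ (p % 7 = 1 ∨ p % 7 = 6)) ∨ (Fintype.card F = p ^ 3 ∧ (p % 7 = 2 ∨ p % 7 = 5 ∨ p % 7 = 3 ∨ p % 7 = 4)))) ∨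
     (Nonempty ((P ⧸ (Cfsg.Geo.scalars (Unit ⊕ (Fin 4 ⊕ Fin 4)) F).subgroupOf P) ≃* Matrix.ProjectiveSpecialLinearGroup (Fin 2) (ZMod 17)) ∧ ((Fintype.card F = p ∧ (p % 17 = 1 ∨ p % 17 = 16 ∨ p % 17 = 2 ∨ p % 17 = 15 ∨ p % 17 = 4 ∨ p % 17 = 13 ∨ p % 17 = 8 ∨ p % 17 = 9)) ∨ (Fintype.card F = p ^ 2 ∧ (p % 17 = 3 ∨ p % 17 = 14 ∨ p % 17 = 5 ∨ p % 17 = 12 ∨ p % 17 = 6 ∨ p % 17 = 11 ∨ p % 17 = 7 ∨ p % 17 = 10)))) ∨
     (Nonempty ((P ⧸ (Cfsg.Geo.scalars (Unit ⊕ (Fin 4 ⊕ Fin 4)) F).subgroupOf P) ≃* alternatingGroup (Fin 10)) ∧ Fintype.card F = p ∧ p ≠ 5 ∧ p ≠ 11) ∨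
     (Nonempty ((P ⧸ (Cfsg.Geo.scalars (Unit ⊕ (Fin 4 ⊕ Fin 4)) F).subgroupOf P) ≃* alternatingGroup (Fin 11)) ∧ Fintype.card F = 11) ∨
     (Nonempty ((P ⧸ (Cfsg.Geo.scalars (Unit ⊕ (Fin 4 ⊕ Fin 4)) F).subgroupOf P) ≃* Matrix.ProjectiveSpecialLinearGroup (Fin 2) F) ∧ 11 ≤ p) ∨
     ((∃ (K : Type) (_ : Field K) (_ : Fintype K), Fintype.card K = Fintype.card F ^ 2 ∧ Nonempty ((P ⧸ (Cfsg.Geo.scalars (Unit ⊕ (Fin 4 ⊕ Fin 4)) F).subgroupOf P) ≃* Matrix.ProjectiveSpecialLinearGroup (Fin 2) K)) ∧ Fintype.card F ≠ 3))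

/-- all prime orders of non-scalar elements of `H` divide `N` -/
def Bd (H : Subgroup (GL (Unit ⊕ (Fin 4 ⊕ Fin 4)) F)) (N : ℕ) : Prop :=
  ∀ (g : GL (Unit ⊕ (Fin 4 ⊕ Fin 4)) F) (s : ℕ), g ∈ H → g ∉ scalars _ F → s.Prime → g ^ s = 1 → s ∣ N

theorem Bd.of_core {H P : Subgroup (GL (Unit ⊕ (Fin 4 ⊕ Fin 4)) F)} (h : IsResidualCore H P) {N : ℕ}
    (hN : Nat.card (MulAut (P ⧸ (scalars (Unit ⊕ (Fin 4 ⊕ Fin 4)) F).subgroupOf P)) ∣ N) : Bd H N :=
  fun _ _ hg hgs hs hgr => (dvd_aut_core h hg hgs hs hgr).trans hN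

/-- the bounds on the prime orders -/
theorem ResCases.bd {H : Subgroup (GL (Unit ⊕ (Fin 4 ⊕ Fin 4)) F)} (h : ResCases H) {p a : ℕ} (hp : p.Prime)
    (ha : 1 ≤ a) (hF : Fintype.card F = p ^ a) :
    (Bd H (2 ^ 3 * (3 ^ 3 * 7)) ∧ (p % 7 = 1 ∨ p % 7 = 6 ∨ a = 3)) ∨
    Bd H (2 ^ 5 * (3 ^ 2 * 17)) ∨
    (Bd H (Nat.factorial 10) ∧ a = 1 ∧ p ≠ 5) ∨
    (Bd H (Nat.factorial 11) ∧ Fintype.card F = 11) ∨
    Bd H ((a * 1) * (p ^ (a * 1) * ((p ^ (a * 1)) ^ 2 - 1))) ∨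
    Bd H ((a * 2) * (p ^ (a * 2) * ((p ^ (a * 2)) ^ 2 - 1))) := by
  obtain ⟨P, p', hcore, hp', hch, h⟩ := h
  have hpf := Fact.mk hp
  have hch2 : CharP F p := charP_of_card_eq_prime_pow hF
  have hpp : p' = p := CharP.eq F hch hch2
  subst hpp
  rcases h with ⟨⟨K, _, _, hK, ⟨e⟩⟩, h1⟩ | ⟨⟨e⟩, h1⟩ | ⟨⟨e⟩, h1, h5, -⟩ | ⟨⟨e⟩, h1⟩ | ⟨⟨e⟩, h1⟩ | ⟨⟨K, _, _, hK, ⟨e⟩⟩, h1⟩
  · left
    refine ⟨Bd.of_core hcore ?_, ?_⟩
    · rw [card_mulAut_congr e, card_mulAut_psl (K := K) (p := 2) (f := 3) Nat.prime_two (by norm_num)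
        (by rw [hK]; norm_num) (by norm_num)]
      norm_num
    · rcases h1 with ⟨-, h1 | h1⟩ | ⟨h1, -⟩
      · exact Or.inl h1
      · exact Or.inr (Or.inl h1)
      · right; right
        rw [hF] at h1
        exact Nat.pow_right_injective hp.two_le h1
  · right; left
    refine Bd.of_core hcore ?_
    have h17 : Fact (Nat.Prime 17) := ⟨by norm_num⟩
    rw [card_mulAut_congr e, card_mulAut_psl (K := ZMod 17) (p := 17) (f := 1) (by norm_num) (by norm_num)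
        (by rw [ZMod.card, pow_one]) (by norm_num)]
    norm_num
  · right; right; left
    refine ⟨Bd.of_core hcore ?_, ?_, h5⟩
    · rw [card_mulAut_congr e]
      exact card_mulAut_alt 10 (by norm_num)
    · rw [hF] at h1
      have h2 : p' ^ a = p' ^ 1 := by rw [h1, pow_one]
      exact Nat.pow_right_injective hp.two_le h2
  · right; right; right; left
    refine ⟨Bd.of_core hcore ?_, h1⟩
    rw [card_mulAut_congr e]
    exact card_mulAut_alt 11 (by norm_num)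
  · right; right; right; right; left
    refine Bd.of_core hcore ?_
    rw [card_mulAut_congr e, card_mulAut_psl (K := F) (p := p') (f := a * 1) hp (by omega)
        (by rw [hF, mul_one]) ?_]
    have h2 : p' ^ 1 ≤ p' ^ (a * 1) := Nat.pow_le_pow_right hp.one_le (by omega)
    rw [pow_one] at h2
    omega
  · right; right; right; right; right
    refine Bd.of_core hcore ?_
    rw [card_mulAut_congr e, card_mulAut_psl (K := K) (p := p') (f := a * 2) hp (by omega)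
        (by rw [hK, hF, ← pow_mul]) ?_]
    have h2 : p' ^ 2 ≤ p' ^ (a * 2) := Nat.pow_le_pow_right hp.one_le (by omega)
    have h3 : 2 ^ 2 ≤ p' ^ 2 := Nat.pow_le_pow_left hp.two_le 2
    omega

variable {Q : QuadraticForm F (Unit ⊕ (Fin 4 ⊕ Fin 4) → F)}

theorem card_nine : Fintype.card (Unit ⊕ (Fin 4 ⊕ Fin 4)) = 9 := by decide

/-- residual groups over the first witness -/
theorem res_a {H : Subgroup (GL (Unit ⊕ (Fin 4 ⊕ Fin 4)) F)} (h : ResCases H) {p a r : ℕ} (hp : p.Prime)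
    (ha : 1 ≤ a) (hF : Fintype.card F = p ^ a) (hr : PP p (a * 8) r) {x : GL (Unit ⊕ (Fin 4 ⊕ Fin 4)) F}
    (hx : Elt Q x r 8) (hxH : x ∈ H) : r = 17 ∧ Bd H (2 ^ 5 * (3 ^ 2 * 17)) := by
  have h17 := num8 hr ha
  have hns := hx.not_scalar (by rw [card_nine]; norm_num)
  rcases h.bd hp ha hF with ⟨h1, -⟩ | h1 | ⟨h1, -, -⟩ | ⟨h1, -⟩ | h1 | h1
  · exfalso
    rcases of_dvd_23 hr.prime (h1 x r hxH hns hr.prime hx.pow) with h2 | h2 | h2
    · omega
    · omega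
    · have := Nat.le_of_dvd (by norm_num) h2
      omega
  · refine ⟨?_, h1⟩
    rcases of_dvd_23 hr.prime (h1 x r hxH hns hr.prime hx.pow) with h2 | h2 | h2
    · omega
    · omega
    · have := Nat.le_of_dvd (by norm_num) h2
      omega
  · exfalso
    have := (hr.prime.dvd_factorial).1 (h1 x r hxH hns hr.prime hx.pow)
    omega
  · exfalso
    have := (hr.prime.dvd_factorial).1 (h1 x r hxH hns hr.prime hx.pow)
    omega
  · exact absurd (h1 x r hxH hns hr.prime hx.pow) (not_dvd_psl hr hp ha le_rfl (by norm_num))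
  · exact absurd (h1 x r hxH hns hr.prime hx.pow) (not_dvd_psl hr hp ha (by norm_num) (by norm_num))

/-- residual groups over the second witness -/
theorem res_b {H : Subgroup (GL (Unit ⊕ (Fin 4 ⊕ Fin 4)) F)} (h : ResCases H) {p a r : ℕ} (hp : p.Prime)
    (hp2 : p ≠ 2) (ha : 1 ≤ a) (hF : Fintype.card F = p ^ a) (hr : PP p (a * 6) r)
    {y u : GL (Unit ⊕ (Fin 4 ⊕ Fin 4)) F} (hb : BElt Q y u r 6 p) (hyH : y ∈ H) (huH : u ∈ H) :
    Fintype.card F = 3 ∧ Bd H (Nat.factorial 10) := by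
  obtain ⟨h6, h7⟩ := num6 hr ha
  have hns := hb.elt.not_scalar (by rw [card_nine]; norm_num)
  have hyp := hb.elt.pow
  have h35 : 3 ≤ p := by have := hp.two_le; omega
  rcases h.bd hp ha hF with ⟨h1, h2⟩ | h1 | ⟨h1, h2, h3⟩ | ⟨h1, h2⟩ | h1 | h1
  · exfalso
    rcases of_dvd_23 hr.prime (h1 y r hyH hns hr.prime hyp) with h3 | h3 | h3
    · omega
    · omega
    · have h4 := Nat.le_of_dvd (by norm_num) h3
      have h5 : r = 7 := by omega
      subst h5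
      have ha1 := num7 hr ha
      subst ha1
      rcases h2 with h2 | h2 | h2
      · exact pp_ne hr (i := 1) (by rw [pow_one]; exact h2) (by norm_num)
      · exact pp_ne hr (i := 2) (by rw [Nat.pow_mod, h2]) (by norm_num)
      · omega
  · exfalso
    rcases of_dvd_23 hr.prime (h1 y r hyH hns hr.prime hyp) with h3 | h3 | h3
    · omega
    · omega
    · have h4 := (Nat.prime_dvd_prime_iff_eq hr.prime (by norm_num)).1 h3
      omega
  · have h4 := (hr.prime.dvd_factorial).1 (h1 y r hyH hns hr.prime hyp)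
    have h5 : r = 7 := by omega
    obtain ⟨v, hv, hv0⟩ := exists_mem_ne (W := Cfsg.Agent.H951.fx (lin u)) (by rw [hb.dim]; norm_num)
    have h8 := (hp.dvd_factorial).1 (h1 u p huH (not_scalar hb.ne hv0 (H951.mem_fx.1 hv)) hp hb.pow)
    have h9 : p ≠ 7 := by
      rintro rfl
      rw [h5] at hr
      exact hr.not_dvd (by omega) dvd_rfl
    have h10 : p = 3 := by
      interval_cases p <;> first | rfl | exact absurd rfl h3 | exact absurd rfl h9 | (revert hp; norm_num)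
    refine ⟨?_, h1⟩
    rw [hF, h2, h10, pow_one]
  · exfalso
    have h4 := (hr.prime.dvd_factorial).1 (h1 y r hyH hns hr.prime hyp)
    have h5 : r = 7 := by
      have := hr.prime
      have : r ≠ 13 := by omega
      omega
    subst h5
    have ha1 := num7 hr ha
    subst ha1
    rw [hF, pow_one] at h2
    subst h2
    exact pp_ne hr (i := 3) (by norm_num) (by norm_num)
  · exact absurd (h1 y r hyH hns hr.prime hyp) (not_dvd_psl hr hp ha le_rfl (by norm_num))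
  · exact absurd (h1 y r hyH hns hr.prime hyp) (not_dvd_psl hr hp ha (by norm_num) (by norm_num))

end

end Cfsg.Agent.H781.Cov9
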